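import Mathlib
import Cfsg.Agent.S0144
import Cfsg.Agent.S0493

/-!
# Subgroups of `GL(4,2)` with trivial `O_2` and `O_{2'}`: general lemmas

`NoSolv X`: the group `X` has no nontrivial solvable normal subgroup.  Small non-solvable groups.
-/

set_option autoImplicit false

namespace Cfsg.Agent.Lib.Helper5.GL42

open Subgroup

universe u

/-- the group has no nontrivial solvable normal subgroup -/
def NoSolv (X : Type*) [Group X] : Prop :=
  ∀ N : Subgroup X, N.Normal → Group.IsSolvable N → N = ⊥

theorem NoSolv.of_mulEquiv {X Y : Type*} [Group X] [Group Y] (e : X ≃* Y) (h : NoSolv X) :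
    NoSolv Y := by
  intro N hN hs
  have h1 : (N.comap e.toMonoidHom).Normal := hN.comap _
  have h2 : Group.IsSolvable (N.comap e.toMonoidHom) := by
    have := hs
    refine Group.isSolvable_of_isSolvable_injective (f := (e.toMonoidHom.subgroupComap N)) ?_
    intro x y hxy
    apply Subtype.ext
    apply e.injective
    exact congrArg Subtype.val hxy
  have h3 := h _ h1 h2
  have h4 : N = (N.comap e.toMonoidHom).map e.toMonoidHom :=
    (Subgroup.map_comap_eq_self_of_surjective e.surjective N).symm
  rw [h4, h3, Subgroup.map_bot]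

theorem NoSolv.not_solvable {X : Type*} [Group X] [Nontrivial X] (h : NoSolv X) :
    ¬ Group.IsSolvable X := by
  intro hs
  have := hs
  have h1 : (⊤ : Subgroup X) = ⊥ := h ⊤ inferInstance inferInstance
  exact top_ne_bot h1

/-- a natural number whose prime divisors are `2` and `3` only -/
theorem eq_two_pow_mul_three_pow (n : ℕ) (hn : n ≠ 0)
    (h : ∀ p : ℕ, p.Prime → p ∣ n → p = 2 ∨ p = 3) :
    n = 2 ^ n.factorization 2 * 3 ^ n.factorization 3 := by
  conv_lhs => rw [← Nat.prod_factorization_pow_eq_self hn]
  rw [Finsupp.prod_of_support_subset (s := {2, 3})]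
  · rw [Finset.prod_pair (by norm_num)]
  · intro p hp
    rw [Nat.support_factorization] at hp
    have h1 := Nat.prime_of_mem_primeFactors hp
    have h2 := Nat.dvd_of_mem_primeFactors hp
    rcases h p h1 h2 with rfl | rfl <;> simp
  · intro i _
    exact pow_zero i

/-- a finite group whose order has no prime divisor other than `2` and `3` is solvable -/
theorem solvable_of_two_three (X : Type*) [Group X] [Finite X]
    (h : ∀ p : ℕ, p.Prime → p ∣ Nat.card X → p = 2 ∨ p = 3) : Group.IsSolvable X :=
  Cfsg.Agent.S0144.result 2 3 _ _ Nat.prime_two Nat.prime_three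
    (eq_two_pow_mul_three_pow _ Nat.card_pos.ne' h)

theorem card_lt_of_ne_top {X : Type*} [Group X] [Finite X] (N : Subgroup X) (h : N ≠ ⊤) :
    Nat.card N < Nat.card X := by
  rcases lt_or_eq_of_le (Subgroup.card_le_card_group N) with h1 | h1
  · exact h1
  · exact absurd ((Subgroup.card_eq_iff_eq_top N).mp h1) h

theorem card_quotient_lt_of_ne_bot {X : Type*} [Group X] [Finite X] (N : Subgroup X) [N.Normal]
    (h : N ≠ ⊥) : Nat.card (X ⧸ N) < Nat.card X := by
  have h1 := Subgroup.card_eq_card_quotient_mul_card_subgroup N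
  have h2 : 1 < Nat.card N := (Subgroup.one_lt_card_iff_ne_bot N).mpr h
  have h3 : 0 < Nat.card (X ⧸ N) := Nat.card_pos
  nlinarith

/-- a non-solvable group that is not simple has a proper nontrivial normal subgroup -/
theorem exists_normal_of_not_simple {X : Type*} [Group X] (hns : ¬ Group.IsSolvable X)
    (hs : ¬ IsSimpleGroup X) : ∃ N : Subgroup X, N.Normal ∧ N ≠ ⊥ ∧ N ≠ ⊤ := by
  have hnt : Nontrivial X := by
    by_contra hnt
    rw [not_nontrivial_iff_subsingleton] at hnt
    have := hnt
    exact hns inferInstance
  by_contra hcon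
  push Not at hcon
  apply hs
  refine { toNontrivial := hnt, eq_bot_or_eq_top_of_normal := ?_ }
  intro N hN
  by_cases hb : N = ⊥
  · exact Or.inl hb
  · exact Or.inr (hcon N hN hb)

theorem solvable_of_normal {X : Type*} [Group X] (N : Subgroup X) [N.Normal]
    (h1 : Group.IsSolvable N) (h2 : Group.IsSolvable (X ⧸ N)) : Group.IsSolvable X := by
  have := h1
  have := h2
  exact Group.isSolvable_of_ker_le_range N.subtype (QuotientGroup.mk' N) (by simp)

theorem sixty_le_aux (n : ℕ) : ∀ (X : Type u) [Group X] [Finite X], Nat.card X = n →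
    ¬ Group.IsSolvable X → 60 ≤ n := by
  induction n using Nat.strong_induction_on with
  | _ n ih =>
    intro X _ _ hn hns
    by_cases hs : IsSimpleGroup X
    · by_contra hlt
      have h100 : Nat.card X ≤ 100 := by omega
      have hnc : ¬ IsCyclic X := by
        intro hc
        apply hns
        have := hc
        let _ := IsCyclic.commGroup (α := X)
        infer_instance
      have := Cfsg.Agent.S0493.result hnc h100
      omega
    · obtain ⟨N, hN, hb, ht⟩ := exists_normal_of_not_simple hns hs
      by_cases hNs : Group.IsSolvable N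
      · have hQ : ¬ Group.IsSolvable (X ⧸ N) := fun hQ => hns (solvable_of_normal N hNs hQ)
        have hlt : Nat.card (X ⧸ N) < n := hn ▸ card_quotient_lt_of_ne_bot N hb
        have := ih _ hlt (X ⧸ N) rfl hQ
        omega
      · have hlt : Nat.card N < n := hn ▸ card_lt_of_ne_top N ht
        have := ih _ hlt N rfl hNs
        omega

/-- a non-solvable finite group has at least `60` elements -/
theorem sixty_le_card {X : Type*} [Group X] [Finite X] (h : ¬ Group.IsSolvable X) : 60 ≤ Nat.card X :=
  sixty_le_aux _ X rfl h

theorem solvable_of_card_lt {X : Type*} [Group X] [Finite X] (h : Nat.card X < 60) :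
    Group.IsSolvable X := by
  by_contra hns
  have := sixty_le_card hns
  omega

/-- a non-solvable group with fewer than `120` elements is simple -/
theorem simple_of_card_lt {X : Type*} [Group X] [Finite X] (hns : ¬ Group.IsSolvable X)
    (h : Nat.card X < 120) : IsSimpleGroup X := by
  by_contra hs
  obtain ⟨N, hN, hb, ht⟩ := exists_normal_of_not_simple hns hs
  have h1 := Subgroup.card_eq_card_quotient_mul_card_subgroup N
  have h2 : 1 < Nat.card N := (Subgroup.one_lt_card_iff_ne_bot N).mpr hb
  have h3 : Nat.card (X ⧸ N) ≠ 1 := by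
    intro h3
    rw [h3, one_mul] at h1
    exact ht ((Subgroup.card_eq_iff_eq_top N).mp h1.symm)
  have h4 : 0 < Nat.card (X ⧸ N) := Nat.card_pos
  have hq : 2 ≤ Nat.card (X ⧸ N) := by omega
  have h7 : 2 * Nat.card N ≤ Nat.card (X ⧸ N) * Nat.card N := Nat.mul_le_mul_right _ hq
  have h8 : Nat.card (X ⧸ N) * 2 ≤ Nat.card (X ⧸ N) * Nat.card N := Nat.mul_le_mul_left _ h2
  have h5 : Nat.card N < 60 := by omega
  have h6 : Nat.card (X ⧸ N) < 60 := by omega
  exact hns (solvable_of_normal N (solvable_of_card_lt h5) (solvable_of_card_lt h6))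

/-- a non-solvable group with at most `100` elements has `60` elements (and is simple) -/
theorem card_eq_sixty {X : Type*} [Group X] [Finite X] (hns : ¬ Group.IsSolvable X)
    (h : Nat.card X ≤ 100) : Nat.card X = 60 := by
  have := simple_of_card_lt hns (by omega)
  have hnc : ¬ IsCyclic X := by
    intro hc
    apply hns
    let _ := IsCyclic.commGroup (α := X)
    infer_instance
  exact Cfsg.Agent.S0493.result hnc h

/-- a group of order `168` without solvable normal subgroups is simple -/
theorem simple_of_card_168 {X : Type*} [Group X] [Finite X] (hR : NoSolv X)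
    (h : Nat.card X = 168) : IsSimpleGroup X := by
  have hnt : Nontrivial X := by
    rw [← Finite.one_lt_card_iff_nontrivial, h]; norm_num
  refine { toNontrivial := hnt, eq_bot_or_eq_top_of_normal := ?_ }
  intro N hN
  by_contra hcon
  push Not at hcon
  obtain ⟨hb, ht⟩ := hcon
  have hNs : ¬ Group.IsSolvable N := fun hs => hb (hR N hN hs)
  have h1 := Subgroup.card_eq_card_quotient_mul_card_subgroup N
  rw [h] at h1
  have h2 := sixty_le_card hNs
  have h3 : Nat.card N < 168 := h ▸ card_lt_of_ne_top N ht
  have h4 : Nat.card N ∣ 168 := ⟨_, by rw [h1, mul_comm]⟩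
  have h5 : Nat.card N = 84 := by
    have key : ∀ d ∈ Nat.divisors 168, 60 ≤ d → d < 168 → d = 84 := by decide
    exact key _ (Nat.mem_divisors.mpr ⟨h4, by norm_num⟩) h2 h3
  have h6 := card_eq_sixty hNs (by omega)
  omega

/-- a proper subgroup of a finite simple group: the order divides the factorial of the index -/
theorem card_dvd_factorial_index {S : Type*} [Group S] [Finite S] [IsSimpleGroup S]
    (L : Subgroup S) (hL : L ≠ ⊤) : Nat.card S ∣ (L.index).factorial := by
  classical
  have hk : (MulAction.toPermHom S (S ⧸ L)).ker = ⊥ := by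
    rcases (MulAction.toPermHom S (S ⧸ L)).normal_ker.eq_bot_or_eq_top with h | h
    · exact h
    · exfalso
      apply hL
      rw [eq_top_iff, ← h, ← Subgroup.normalCore_eq_ker]
      exact Subgroup.normalCore_le L
  have hinj : Function.Injective (MulAction.toPermHom S (S ⧸ L)) :=
    (MonoidHom.ker_eq_bot_iff _).mp hk
  have h1 := Subgroup.card_dvd_of_injective _ hinj
  haveI : Fintype (S ⧸ L) := Fintype.ofFinite _
  rw [Nat.card_eq_fintype_card (α := Equiv.Perm (S ⧸ L)), Fintype.card_perm,
    ← Nat.card_eq_fintype_card] at h1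
  exact h1

end Cfsg.Agent.Lib.Helper5.GL42
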