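import Mathlib

/-!
# Checking a decidable property on all permutations of eight points
-/

set_option autoImplicit false

namespace Cfsg.Agent.Lib.Helper5.GL42

open Equiv
open scoped List

/-- the map of `Fin 8` given by a list of values -/
def fn (l : List (Fin 8)) : Fin 8 → Fin 8 := fun i => l.getD i.val 0

theorem fn_ofFn (f : Fin 8 → Fin 8) : fn (List.ofFn f) = f := by
  funext i
  unfold fn
  rw [List.getD_eq_getElem?_getD, List.getElem?_ofFn]
  simp

theorem ofFn_mem_perms (σ : Perm (Fin 8)) :
    List.ofFn (⇑σ) ∈ (List.finRange 8).permutations' := by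
  rw [List.mem_permutations', List.ofFn_eq_map]
  exact Equiv.Perm.map_finRange_perm σ

/-- a decidable property of maps which holds on a list of all permutations -/
theorem forall_perm8 (P : (Fin 8 → Fin 8) → Prop) [DecidablePred P]
    (h : ((List.finRange 8).permutations'.all fun l => decide (P (fn l))) = true)
    (σ : Perm (Fin 8)) : P ⇑σ := by
  have := List.all_eq_true.mp h _ (ofFn_mem_perms σ)
  rw [fn_ofFn] at this
  exact of_decide_eq_true this

/-- the check on the permutations with given first two values -/
def chunk (P : (Fin 8 → Fin 8) → Prop) [DecidablePred P] (a b : Fin 8) : Bool :=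
  (((List.finRange 8).erase a).erase b).permutations'.all fun l => decide (P (fn (a :: b :: l)))

/-- the check on all permutations, split according to the first two values -/
theorem forall_perm8' (P : (Fin 8 → Fin 8) → Prop) [DecidablePred P]
    (h : ∀ a b : Fin 8, a ≠ b → chunk P a b = true) (σ : Perm (Fin 8)) : P ⇑σ := by
  have h1 : List.ofFn (⇑σ) = σ 0 :: σ 1 :: List.ofFn (fun i : Fin 6 => σ i.succ.succ) := by
    rw [List.ofFn_succ, List.ofFn_succ]
    rfl
  have h2 : List.ofFn (⇑σ) ~ List.finRange 8 := by
    rw [List.ofFn_eq_map]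
    exact Equiv.Perm.map_finRange_perm σ
  rw [h1] at h2
  have h3 := (h2.erase (σ 0)).erase (σ 1)
  rw [List.erase_cons_head, List.erase_cons_head] at h3
  have hne : σ 0 ≠ σ 1 := fun h4 => absurd (σ.injective h4) (by decide)
  have h5 := h _ _ hne
  unfold chunk at h5
  have h6 := List.all_eq_true.mp h5 _ (List.mem_permutations'.mpr h3)
  rw [← h1, fn_ofFn] at h6
  exact of_decide_eq_true h6

end Cfsg.Agent.Lib.Helper5.GL42
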