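import Mathlib
import Cfsg.Agent.Lib.Helper5.GL42.Brute

/-!
# Subgroups of `S_8` given by lists of value lists
-/

set_option autoImplicit false

namespace Cfsg.Agent.Lib.Helper5.GL42

open Equiv

theorem ofFn_fn (l : List (Fin 8)) (h : l.length = 8) : List.ofFn (fn l) = l := by
  apply List.ext_getElem
  · simp [h]
  · intro i h1 h2
    simp only [List.getElem_ofFn, fn]
    rw [List.getD_eq_getElem?_getD, List.getElem?_eq_getElem h2]
    rfl

/-- the permutation with a given list of values -/
noncomputable def permOf (l : List (Fin 8)) : Perm (Fin 8) :=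
  if h : Function.Bijective (fn l) then Equiv.ofBijective (fn l) h else 1

theorem coe_permOf (l : List (Fin 8)) (h : Function.Injective (fn l)) : ⇑(permOf l) = fn l := by
  have hb : Function.Bijective (fn l) := Finite.injective_iff_bijective.mp h
  unfold permOf
  rw [dif_pos hb]
  rfl

/-- a list of value lists, closed under composition -/
structure IsClosedList (L : List (List (Fin 8))) : Prop where
  one : List.ofFn (fun i : Fin 8 => i) ∈ L
  mul : ∀ a ∈ L, ∀ b ∈ L, List.ofFn (fun i => fn a (fn b i)) ∈ L

/-- the entries are value lists of permutations -/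
def GoodList (L : List (List (Fin 8))) : Prop :=
  ∀ l ∈ L, l.length = 8 ∧ Function.Injective (fn l)

/-- the submonoid of the permutations with value list in `L` -/
def LM (L : List (List (Fin 8))) (hL : IsClosedList L) : Submonoid (Perm (Fin 8)) where
  carrier := {σ | List.ofFn ⇑σ ∈ L}
  one_mem' := hL.one
  mul_mem' := by
    intro σ τ hσ hτ
    have := hL.mul _ hσ _ hτ
    simp only [fn_ofFn] at this
    exact this

/-- the subgroup of the permutations with value list in `L` -/
def LS (L : List (List (Fin 8))) (hL : IsClosedList L) : Subgroup (Perm (Fin 8)) :=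
  { LM L hL with
    inv_mem' := by
      intro σ hσ
      have h1 : σ⁻¹ ∈ Submonoid.powers σ :=
        (isOfFinOrder_of_finite σ).mem_powers_iff_mem_zpowers.mpr
          (Subgroup.inv_mem _ (Subgroup.mem_zpowers σ))
      exact (Submonoid.powers_le.mpr hσ) h1 }

theorem mem_LS (L : List (List (Fin 8))) (hL : IsClosedList L) (σ : Perm (Fin 8)) :
    σ ∈ LS L hL ↔ List.ofFn ⇑σ ∈ L := Iff.rfl

theorem permOf_mem_LS (L : List (List (Fin 8))) (hL : IsClosedList L) (hg : GoodList L)
    (l : List (Fin 8)) (hl : l ∈ L) : permOf l ∈ LS L hL := by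
  rw [mem_LS, coe_permOf _ (hg l hl).2, ofFn_fn _ (hg l hl).1]
  exact hl

theorem card_LS_le (L : List (List (Fin 8))) (hL : IsClosedList L) :
    Nat.card (LS L hL) ≤ L.length := by
  classical
  have h1 : Nat.card (LS L hL) ≤ Nat.card {l // l ∈ L.toFinset} :=
    Nat.card_le_card_of_injective
      (fun σ => ⟨List.ofFn ⇑σ.1, List.mem_toFinset.mpr σ.2⟩) (by
        intro σ τ h
        have h2 : List.ofFn ⇑σ.1 = List.ofFn ⇑τ.1 := congrArg Subtype.val h
        apply Subtype.ext
        apply Equiv.ext
        intro i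
        exact congrFun (List.ofFn_injective h2) i)
  have h0 : Nat.card {l // l ∈ L.toFinset} = L.toFinset.card := by
    rw [Nat.card_eq_fintype_card, Fintype.card_coe]
  rw [h0] at h1
  exact h1.trans (List.toFinset_card_le L)

theorem card_LS (L : List (List (Fin 8))) (hL : IsClosedList L) (hg : GoodList L)
    (hnd : L.Nodup) : Nat.card (LS L hL) = L.length := by
  classical
  apply le_antisymm (card_LS_le L hL)
  have h1 : Nat.card {l // l ∈ L.toFinset} ≤ Nat.card (LS L hL) :=
    Nat.card_le_card_of_injective
      (fun l => ⟨permOf l.1, permOf_mem_LS L hL hg l.1 (List.mem_toFinset.mp l.2)⟩) (by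
        intro l l' hll
        have h2 : permOf l.1 = permOf l'.1 := congrArg Subtype.val hll
        have hl := hg l.1 (List.mem_toFinset.mp l.2)
        have hl' := hg l'.1 (List.mem_toFinset.mp l'.2)
        have h3 : List.ofFn ⇑(permOf l.1) = List.ofFn ⇑(permOf l'.1) := by rw [h2]
        rw [coe_permOf _ hl.2, coe_permOf _ hl'.2, ofFn_fn _ hl.1, ofFn_fn _ hl'.1] at h3
        exact Subtype.ext h3)
  have h0 : Nat.card {l // l ∈ L.toFinset} = L.toFinset.card := by
    rw [Nat.card_eq_fintype_card, Fintype.card_coe]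
  rw [h0, List.toFinset_card_of_nodup hnd] at h1
  exact h1

/-- an element conjugating a finite subgroup into itself normalizes it -/
theorem mem_normalizer_of_conj_mem {G : Type*} [Group G] (E : Subgroup G) [Finite E] (σ : G)
    (h : ∀ e ∈ E, σ * e * σ⁻¹ ∈ E) : σ ∈ Subgroup.normalizer (E : Set G) := by
  rw [Subgroup.mem_normalizer_iff]
  intro x
  refine ⟨h x, fun hx => ?_⟩
  let φ : E → E := fun e => ⟨σ * e * σ⁻¹, h e e.2⟩
  have hinj : Function.Injective φ := by
    intro a b hab
    have h1 : σ * a * σ⁻¹ = σ * b * σ⁻¹ := congrArg Subtype.val hab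
    apply Subtype.ext
    simpa using h1
  obtain ⟨e, he⟩ := (Finite.injective_iff_surjective.mp hinj) ⟨_, hx⟩
  have h1 : σ * e * σ⁻¹ = σ * x * σ⁻¹ := congrArg Subtype.val he
  have h2 : (e : G) = x := by simpa using h1
  rw [← h2]
  exact e.2

end Cfsg.Agent.Lib.Helper5.GL42
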