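import Mathlib
import Cfsg.Agent.Lib.Helper5.GL42.ListSub

/-!
# An involution of `S_8` normalizing a subgroup of order seven is odd
-/

set_option autoImplicit false

namespace Cfsg.Agent.Lib.Helper5.GL42

open Equiv Equiv.Perm

/-- values of a cycle of length seven -/
def c7l : List (Fin 8) := [1,2,3,4,5,6,0,7]

/-- values of a reflection -/
def r0l : List (Fin 8) := [0,6,5,4,3,2,1,7]

/-- the property checked on all permutations -/
def P1 (f : Fin 8 → Fin 8) : Prop :=
  (∀ i, f (f i) = i) → (∃ i, f i ≠ i) →
    (∃ k : Fin 7, ∀ i, f (fn c7l i) = (fn c7l)^[k] (f i)) →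
      ∃ j : Fin 7, ∀ i, f i = (fn c7l)^[j] (fn r0l i)

instance : DecidablePred P1 := fun f => by unfold P1; infer_instance

set_option maxHeartbeats 0 in
set_option maxRecDepth 100000 in
theorem c1 (σ : Perm (Fin 8)) : P1 ⇑σ := by
  apply forall_perm8'
  intro a b hab
  fin_cases a <;> fin_cases b <;> first | exact absurd rfl hab | skip
  all_goals clear hab
  all_goals decide +kernel

end Cfsg.Agent.Lib.Helper5.GL42
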