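import Mathlib
import Cfsg.Agent.S0249
import Cfsg.Agent.S0256
import Cfsg.Agent.S0495

/-!
# `GL(n,2) ≃* PSL(n,2)`, `GL(4,2) ≃* A_8`, and `GL(3,2)` is the simple group of order `168`
-/

set_option autoImplicit false

namespace Cfsg.Agent.Lib.Helper5.GL42

open Matrix

theorem zmod2_eq_one_of_ne_zero (r : ZMod 2) (h : r ≠ 0) : r = 1 := by
  revert r; decide

/-- over the field with two elements the special linear group is the general linear group -/
theorem toGL_surjective (n : ℕ) :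
    Function.Surjective (SpecialLinearGroup.toGL : SpecialLinearGroup (Fin n) (ZMod 2) → GL (Fin n) (ZMod 2)) := by
  intro g
  have hdet : (g : Matrix (Fin n) (Fin n) (ZMod 2)).det = 1 := by
    apply zmod2_eq_one_of_ne_zero
    have h := (Matrix.GeneralLinearGroup.det g).isUnit
    rw [Matrix.GeneralLinearGroup.val_det_apply] at h
    exact h.ne_zero
  refine ⟨⟨g, hdet⟩, ?_⟩
  apply Units.ext
  rfl

/-- `SL(n,2) ≃* GL(n,2)` -/
noncomputable def slEquivGL (n : ℕ) : SpecialLinearGroup (Fin n) (ZMod 2) ≃* GL (Fin n) (ZMod 2) :=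
  MulEquiv.ofBijective SpecialLinearGroup.toGL ⟨SpecialLinearGroup.toGL_injective, toGL_surjective n⟩

theorem center_sl_eq_bot (n : ℕ) (hn : 1 ≤ n) :
    Subgroup.center (SpecialLinearGroup (Fin n) (ZMod 2)) = ⊥ := by
  rw [eq_bot_iff]
  intro A hA
  obtain ⟨r, hr, hA'⟩ := Matrix.SpecialLinearGroup.mem_center_iff.mp hA
  have hr0 : r ≠ 0 := by
    rintro rfl
    rw [Fintype.card_fin, zero_pow (by omega)] at hr
    exact zero_ne_one hr
  have hr1 := zmod2_eq_one_of_ne_zero r hr0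
  rw [Subgroup.mem_bot]
  apply Subtype.ext
  rw [← hA', hr1]
  simp

/-- `GL(n,2) ≃* PSL(n,2)` -/
noncomputable def glEquivPSL (n : ℕ) (hn : 1 ≤ n) :
    GL (Fin n) (ZMod 2) ≃* Matrix.ProjectiveSpecialLinearGroup (Fin n) (ZMod 2) :=
  (slEquivGL n).symm.trans
    ((QuotientGroup.quotientBot (G := SpecialLinearGroup (Fin n) (ZMod 2))).symm.trans
      (QuotientGroup.quotientMulEquivOfEq (center_sl_eq_bot n hn).symm))

/-- `GL(4,2) ≃* A_8` -/
theorem gl4_equiv_alt8 : Nonempty (GL (Fin 4) (ZMod 2) ≃* alternatingGroup (Fin 8)) := by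
  obtain ⟨e⟩ := Cfsg.Agent.S0256.result (F := ZMod 2) (ZMod.card 2)
  exact ⟨(glEquivPSL 4 (by norm_num)).trans e⟩

instance gl3_simple : IsSimpleGroup (GL (Fin 3) (ZMod 2)) := by
  have := Cfsg.Agent.S0249.result (F := ZMod 2) 3 le_rfl
  exact (glEquivPSL 3 (by norm_num)).isSimpleGroup

theorem card_gl3 : Nat.card (GL (Fin 3) (ZMod 2)) = 168 := by
  rw [Matrix.card_GL_field, ZMod.card]
  decide

/-- a simple group of order `168` is isomorphic to `GL(3,2)` -/
theorem equiv_gl3_of_simple {X : Type*} [Group X] [Finite X] [IsSimpleGroup X]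
    (h : Nat.card X = 168) : Nonempty (X ≃* GL (Fin 3) (ZMod 2)) := by
  have : Fact (Nat.Prime 7) := ⟨by norm_num⟩
  obtain ⟨e1⟩ := Cfsg.Agent.S0495.result h (F := ZMod 7) (ZMod.card 7)
  obtain ⟨e2⟩ := Cfsg.Agent.S0495.result card_gl3 (F := ZMod 7) (ZMod.card 7)
  exact ⟨e1.trans e2.symm⟩

end Cfsg.Agent.Lib.Helper5.GL42
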