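import Mathlib
import Cfsg.Agent.S0494
import Cfsg.Agent.S0678
import Cfsg.Agent.Lib.Helper5.GL42.Basic
import Cfsg.Agent.Lib.Helper5.GL42.Glue

/-!
# Non-solvable permutation groups of degree 5, 6 and 7
-/

set_option autoImplicit false

namespace Cfsg.Agent.Lib.Helper5.GL42

open Equiv Equiv.Perm

variable {α : Type*} [Fintype α] [DecidableEq α]

/-- a subgroup containing the alternating group is the alternating group or everything -/
theorem eq_alt_or_top (Q : Subgroup (Perm α)) (h : alternatingGroup α ≤ Q) :
    Q = alternatingGroup α ∨ Q = ⊤ := by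
  by_cases hQ : Q ≤ alternatingGroup α
  · left; exact le_antisymm hQ h
  · right
    rw [SetLike.not_le_iff_exists] at hQ
    obtain ⟨q, hq, hqA⟩ := hQ
    rw [eq_top_iff]
    intro σ _
    by_cases hσ : σ ∈ alternatingGroup α
    · exact h hσ
    · have h1 : q⁻¹ * σ ∈ alternatingGroup α := by
        rw [mem_alternatingGroup] at *
        rw [Perm.sign_mul, Perm.sign_inv]
        rcases Int.units_eq_one_or (sign q) with h1 | h1
        · exact absurd h1 hqA
        rcases Int.units_eq_one_or (sign σ) with h2 | h2
        · exact absurd h2 hσ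
        rw [h1, h2]; decide
      have h2 : σ = q * (q⁻¹ * σ) := by group
      rw [h2]; exact Q.mul_mem hq (h h1)

/-- the isomorphism type of a subgroup containing the alternating group -/
theorem iso_of_alt_le (Q : Subgroup (Perm α)) (h : alternatingGroup α ≤ Q) (n : ℕ)
    (hn : Fintype.card α = n) :
    Nonempty (Q ≃* alternatingGroup (Fin n)) ∨ Nonempty (Q ≃* Perm (Fin n)) := by
  have e : α ≃ Fin n := Fintype.equivFinOfCardEq hn
  rcases eq_alt_or_top Q h with hQ | hQ
  · left
    exact ⟨(MulEquiv.subgroupCongr hQ).trans (Equiv.altCongrHom e)⟩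
  · right
    exact ⟨((MulEquiv.subgroupCongr hQ).trans Subgroup.topEquiv).trans e.permCongrHom⟩

/-- the even part of a subgroup -/
abbrev evenPart (Q : Subgroup (Perm α)) : Subgroup (Perm α) := Q ⊓ alternatingGroup α

theorem solvable_of_evenPart (Q : Subgroup (Perm α)) (h : Group.IsSolvable (evenPart Q)) :
    Group.IsSolvable Q := by
  have h1 : Group.IsSolvable ((alternatingGroup α).subgroupOf Q) := by
    have := h
    have e : (alternatingGroup α).subgroupOf Q ≃* evenPart Q := by
      rw [← Subgroup.inf_subgroupOf_left]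
      exact Subgroup.subgroupOfEquivOfLe inf_le_left
    exact Group.isSolvable_of_isSolvable_injective (f := e.toMonoidHom) e.injective
  refine Group.isSolvable_of_ker_le_range ((alternatingGroup α).subgroupOf Q).subtype
    (sign.comp Q.subtype) ?_
  intro q hq
  rw [MonoidHom.mem_ker] at hq
  exact ⟨⟨q, by rw [Subgroup.mem_subgroupOf, mem_alternatingGroup]; exact hq⟩, rfl⟩

/-- the order of a subgroup is the order of its even part or twice that -/
theorem card_eq_or_two_mul (Q : Subgroup (Perm α)) :
    Nat.card Q = Nat.card (evenPart Q) ∨ Nat.card Q = 2 * Nat.card (evenPart Q) := by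
  have e : (alternatingGroup α).subgroupOf Q ≃* evenPart Q := by
    rw [← Subgroup.inf_subgroupOf_left]
    exact Subgroup.subgroupOfEquivOfLe inf_le_left
  have h1 := Subgroup.card_mul_index ((alternatingGroup α).subgroupOf Q)
  rw [Nat.card_congr e.toEquiv] at h1
  have h2 : ((alternatingGroup α).subgroupOf Q).index ∣ 2 := by
    rcases subsingleton_or_nontrivial α with hs | hs
    · have : (alternatingGroup α).index = 1 := alternatingGroup.index_eq_one
      have h3 := Subgroup.relIndex_dvd_index_of_normal (alternatingGroup α) Q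
      rw [this] at h3
      exact h3.trans (by norm_num)
    · have h3 := Subgroup.relIndex_dvd_index_of_normal (alternatingGroup α) Q
      rw [alternatingGroup.index_eq_two] at h3
      exact h3
  have h3 : ((alternatingGroup α).subgroupOf Q).index = 1 ∨
      ((alternatingGroup α).subgroupOf Q).index = 2 := by
    have := Nat.le_of_dvd (by norm_num) h2
    have hpos : ((alternatingGroup α).subgroupOf Q).index ≠ 0 := Subgroup.index_ne_zero_of_finite
    omega
  rcases h3 with h3 | h3
  · left; rw [h3, mul_one] at h1; exact h1.symm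
  · right; rw [h3] at h1; omega

/-- degree five -/
theorem deg5 (h5 : Fintype.card α = 5) (Q : Subgroup (Perm α)) (hns : ¬ Group.IsSolvable Q) :
    Nonempty (Q ≃* alternatingGroup (Fin 5)) ∨ Nonempty (Q ≃* Perm (Fin 5)) := by
  have hnt : Nontrivial α := by
    rw [← Fintype.one_lt_card_iff_nontrivial, h5]; norm_num
  have h1 : ¬ Group.IsSolvable (evenPart Q) := fun h => hns (solvable_of_evenPart Q h)
  have h2 := sixty_le_card h1
  have h3 : Nat.card (alternatingGroup α) = 60 := by
    rw [nat_card_alternatingGroup, Nat.card_eq_fintype_card, h5]; decide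
  have h4 : evenPart Q = alternatingGroup α :=
    Subgroup.eq_of_le_of_card_ge inf_le_right (by rw [h3]; exact h2)
  have h5' : alternatingGroup α ≤ Q := h4 ▸ inf_le_left
  exact iso_of_alt_le Q h5' 5 h5


/-- a subgroup of order `120` of the symmetric group of degree six is a symmetric group of degree
five (it is a point stabiliser in the action on its own cosets) -/
theorem deg6_index6 (h6 : Fintype.card α = 6) (Q : Subgroup (Perm α)) (hQ : Nat.card Q = 120) :
    Nonempty (Q ≃* Perm (Fin 5)) := by
  classical
  have hP : Nat.card (Perm α) = 720 := by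
    rw [Nat.card_perm, Nat.card_eq_fintype_card, h6]; decide
  have hidx : Nat.card (Perm α ⧸ Q) = 6 := by
    have h1 := Subgroup.card_mul_index Q
    rw [hQ, hP, Subgroup.index_eq_card] at h1
    omega
  let θ := MulAction.toPermHom (Perm α) (Perm α ⧸ Q)
  have hker : θ.ker = ⊥ := by
    by_contra hne
    have hnt : Nontrivial θ.ker := (Subgroup.nontrivial_iff_ne_bot _).mpr hne
    have h1 : alternatingGroup α ≤ θ.ker :=
      Equiv.Perm.alternatingGroup_le_of_normal
        (by rw [Nat.card_eq_fintype_card, h6]; norm_num) hnt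
    have h2 : θ.ker ≤ Q := by
      rw [← Subgroup.normalCore_eq_ker]; exact Subgroup.normalCore_le Q
    have h3 := Subgroup.card_le_of_le (h1.trans h2)
    have hnt' : Nontrivial α := by
      rw [← Fintype.one_lt_card_iff_nontrivial, h6]; norm_num
    have h4 : Nat.card (alternatingGroup α) = 360 := by
      rw [nat_card_alternatingGroup, Nat.card_eq_fintype_card, h6]; decide
    omega
  have hinj : Function.Injective θ := (MonoidHom.ker_eq_bot_iff θ).mp hker
  let x₀ : Perm α ⧸ Q := ((1 : Perm α) : Perm α ⧸ Q)
  have hfix : ∀ q : Q, θ q x₀ = x₀ := by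
    intro q
    have h1 : (q : Perm α) ∈ MulAction.stabilizer (Perm α) x₀ := by
      rw [MulAction.stabilizer_quotient]; exact q.2
    exact h1
  have hp : ∀ q : Q, ∀ x : Perm α ⧸ Q, (θ q x ≠ x₀ ↔ x ≠ x₀) := by
    intro q x
    rw [not_iff_not]
    constructor
    · intro h
      apply (θ q).injective
      rw [h, hfix]
    · rintro rfl
      exact hfix q
  let ψ : Q →* Perm {x : Perm α ⧸ Q // x ≠ x₀} :=
    { toFun := fun q => (θ q).subtypePerm (hp q)
      map_one' := by
        ext x
        simp
      map_mul' := by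
        intro a b
        ext x
        show ((θ ((a * b : Q) : Perm α)) x : Perm α ⧸ Q) = (θ a) ((θ b) x)
        rw [Subgroup.coe_mul, map_mul]
        rfl }
  have hψ : Function.Injective ψ := by
    intro a b hab
    apply Subtype.ext
    apply hinj
    ext x
    by_cases hx : x = x₀
    · rw [hx, hfix, hfix]
    · have h1 := congrArg (fun f => (f ⟨x, hx⟩ : Perm α ⧸ Q)) hab
      exact h1
  letI : Fintype (Perm α ⧸ Q) := Fintype.ofFinite _
  have h5 : Nat.card {x : Perm α ⧸ Q // x ≠ x₀} = 5 := by
    have h1 := Set.card_ne_eq x₀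
    rw [← Nat.card_eq_fintype_card, ← Nat.card_eq_fintype_card, hidx] at h1
    exact h1
  have hcard : Nat.card (Perm {x : Perm α ⧸ Q // x ≠ x₀}) = 120 := by
    rw [Nat.card_perm, h5]; decide
  have hbij : Function.Bijective ψ := by
    rw [Nat.bijective_iff_injective_and_card]
    exact ⟨hψ, by rw [hQ, hcard]⟩
  letI : Fintype {x : Perm α ⧸ Q // x ≠ x₀} := Fintype.ofFinite _
  have e : {x : Perm α ⧸ Q // x ≠ x₀} ≃ Fin 5 :=
    Fintype.equivFinOfCardEq (by rw [← Nat.card_eq_fintype_card, h5])
  exact ⟨(MulEquiv.ofBijective ψ hbij).trans e.permCongrHom⟩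


/-- degree six -/
theorem deg6 (h6 : Fintype.card α = 6) (Q : Subgroup (Perm α)) (hns : ¬ Group.IsSolvable Q) :
    Nonempty (Q ≃* alternatingGroup (Fin 5)) ∨ Nonempty (Q ≃* Perm (Fin 5)) ∨
    Nonempty (Q ≃* alternatingGroup (Fin 6)) ∨ Nonempty (Q ≃* Perm (Fin 6)) := by
  have hnt : Nontrivial α := by
    rw [← Fintype.one_lt_card_iff_nontrivial, h6]; norm_num
  have h1 : ¬ Group.IsSolvable (evenPart Q) := fun h => hns (solvable_of_evenPart Q h)
  have hA : Nat.card (alternatingGroup α) = 360 := by
    rw [nat_card_alternatingGroup, Nat.card_eq_fintype_card, h6]; decide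
  by_cases hE : evenPart Q = alternatingGroup α
  · have h2 : alternatingGroup α ≤ Q := hE ▸ inf_le_left
    rcases iso_of_alt_le Q h2 6 h6 with h | h
    · exact Or.inr (Or.inr (Or.inl h))
    · exact Or.inr (Or.inr (Or.inr h))
  · let L := (evenPart Q).subgroupOf (alternatingGroup α)
    have hL : L ≠ ⊤ := by
      intro h
      rw [Subgroup.subgroupOf_eq_top] at h
      exact hE (le_antisymm inf_le_right h)
    have : IsSimpleGroup (alternatingGroup α) :=
      alternatingGroup.isSimpleGroup (by rw [Nat.card_eq_fintype_card, h6]; norm_num)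
    have h2 := card_dvd_factorial_index L hL
    rw [hA] at h2
    have e : L ≃* evenPart Q := Subgroup.subgroupOfEquivOfLe inf_le_right
    have h3 := Subgroup.card_mul_index L
    rw [hA, Nat.card_congr e.toEquiv] at h3
    have h4 : 6 ≤ L.index := by
      by_contra hlt
      push Not at hlt
      interval_cases L.index <;> revert h2 <;> decide
    have h5 : Nat.card (evenPart Q) ≤ 60 := by nlinarith
    have h6' : Nat.card (evenPart Q) = 60 := le_antisymm h5 (sixty_le_card h1)
    rcases card_eq_or_two_mul Q with h7 | h7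
    · have hQ : Nat.card Q = 60 := by omega
      have := simple_of_card_lt hns (by omega)
      exact Or.inl (Cfsg.Agent.S0494.result hQ)
    · have hQ : Nat.card Q = 120 := by omega
      exact Or.inr (Or.inl (deg6_index6 h6 Q hQ))

/-- degree seven -/
theorem deg7 (h7 : Fintype.card α = 7) (Q : Subgroup (Perm α)) [MulAction.IsPretransitive Q α]
    (hns : ¬ Group.IsSolvable Q) (hQA : Q ≤ alternatingGroup α) :
    Nonempty (Q ≃* alternatingGroup (Fin 7)) ∨ Nonempty (Q ≃* GL (Fin 3) (ZMod 2)) := by
  by_cases hA : alternatingGroup α ≤ Q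
  · left
    have hQ : Q = alternatingGroup α := le_antisymm hQA hA
    exact ⟨(MulEquiv.subgroupCongr hQ).trans (Equiv.altCongrHom (Fintype.equivFinOfCardEq h7))⟩
  · right
    obtain ⟨hc, hs⟩ := Cfsg.Agent.S0678.result h7 Q hns hA
    have := hs
    exact equiv_gl3_of_simple hc

end Cfsg.Agent.Lib.Helper5.GL42
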