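import Mathlib
import Cfsg.Agent.Lib.Helper5.GL42.Small

/-!
# Reduction of a subgroup of `S_8` without solvable normal subgroups to a transitive group
-/

set_option autoImplicit false

namespace Cfsg.Agent.Lib.Helper5.GL42

open Equiv Equiv.Perm

/-- a permutation of prime order: the support has at least `p` points -/
theorem prime_le_support {α : Type*} [Fintype α] [DecidableEq α] (g : Perm α)
    (hp : (orderOf g).Prime) : orderOf g ≤ g.support.card := by
  obtain ⟨n, hn⟩ := cycleType_prime_order hp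
  rw [← sum_cycleType, hn, Multiset.sum_replicate, smul_eq_mul]
  nlinarith

/-- in degree eight an element of order five or seven is a cycle -/
theorem isCycle_of_order (g : Perm (Fin 8)) (p : ℕ) (hp : p = 5 ∨ p = 7) (hg : orderOf g = p) :
    g.IsCycle ∧ g.support.card = p := by
  have hpp : (orderOf g).Prime := by rcases hp with rfl | rfl <;> rw [hg] <;> norm_num
  obtain ⟨n, hn⟩ := cycleType_prime_order hpp
  have h1 : g.cycleType.sum ≤ 8 := by simpa using sum_cycleType_le g
  rw [hn, Multiset.sum_replicate, smul_eq_mul, hg] at h1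
  have hn0 : n = 0 := by rcases hp with rfl | rfl <;> omega
  subst hn0
  constructor
  · rw [← card_cycleType_eq_one, hn]; simp
  · rw [← sum_cycleType, hn, hg]; simp

theorem prime_dvd_40320 (p : ℕ) (hp : p.Prime) (h : p ∣ 40320) :
    p = 2 ∨ p = 3 ∨ p = 5 ∨ p = 7 := by
  have h0 : 40320 = 2 ^ 7 * 3 ^ 2 * 5 * 7 := by norm_num
  rw [h0] at h
  rcases (Nat.Prime.dvd_mul hp).mp h with h2 | h2
  · rcases (Nat.Prime.dvd_mul hp).mp h2 with h2 | h2
    · rcases (Nat.Prime.dvd_mul hp).mp h2 with h2 | h2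
      · left; exact (Nat.prime_dvd_prime_iff_eq hp Nat.prime_two).mp (hp.dvd_of_dvd_pow h2)
      · right; left
        exact (Nat.prime_dvd_prime_iff_eq hp Nat.prime_three).mp (hp.dvd_of_dvd_pow h2)
    · right; right; left; exact (Nat.prime_dvd_prime_iff_eq hp (by norm_num)).mp h2
  · right; right; right; exact (Nat.prime_dvd_prime_iff_eq hp (by norm_num)).mp h2

theorem card_dvd_40320 (H : Subgroup (Perm (Fin 8))) : Nat.card H ∣ 40320 := by
  have h := Subgroup.card_subgroup_dvd_card H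
  rw [Nat.card_perm, Nat.card_fin] at h
  exact h

/-- a non-solvable subgroup of `S_8` has an element of order five or seven -/
theorem exists_order_five_or_seven (H : Subgroup (Perm (Fin 8))) (hns : ¬ Group.IsSolvable H) :
    ∃ g : H, orderOf g = 5 ∨ orderOf g = 7 := by
  by_contra hcon
  push Not at hcon
  apply hns
  apply solvable_of_two_three
  intro p hp hdvd
  rcases prime_dvd_40320 p hp (hdvd.trans (card_dvd_40320 H)) with rfl | rfl | rfl | rfl
  · left; rfl
  · right; rfl
  · exfalso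
    have : Fact (Nat.Prime 5) := ⟨by norm_num⟩
    obtain ⟨g, hg⟩ := exists_prime_orderOf_dvd_card' 5 hdvd
    exact (hcon g).1 hg
  · exfalso
    have : Fact (Nat.Prime 7) := ⟨by norm_num⟩
    obtain ⟨g, hg⟩ := exists_prime_orderOf_dvd_card' 7 hdvd
    exact (hcon g).2 hg

/-- a subgroup fixing at least five points is solvable -/
theorem solvable_of_fix (H : Subgroup (Perm (Fin 8))) (Δ : Set (Fin 8)) (hΔ : 5 ≤ Δ.ncard)
    (K : Subgroup H) (hK : ∀ k ∈ K, ∀ y ∈ Δ, ((k : H) : Perm (Fin 8)) y = y) :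
    Group.IsSolvable K := by
  apply solvable_of_two_three
  intro q hq hdvd
  by_contra hcon
  push Not at hcon
  have : Fact q.Prime := ⟨hq⟩
  obtain ⟨k, hk⟩ := exists_prime_orderOf_dvd_card' q hdvd
  have hg : orderOf (((k : K) : H) : Perm (Fin 8)) = q := by
    rw [← hk, Subgroup.orderOf_coe, Subgroup.orderOf_coe]
  have h1 := prime_le_support (((k : K) : H) : Perm (Fin 8)) (hg ▸ hq)
  rw [hg] at h1
  have h2 : ((((k : K) : H) : Perm (Fin 8)).support : Set (Fin 8)) ⊆ Δᶜ := by
    intro y hy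
    rw [Finset.mem_coe, mem_support] at hy
    intro hyΔ
    exact hy (hK _ k.2 y hyΔ)
  have h3 := Set.ncard_le_ncard h2
  rw [Set.ncard_coe_finset, Set.ncard_compl, Nat.card_eq_fintype_card, Fintype.card_fin] at h3
  have h4 : 5 ≤ q := Nat.Prime.five_le_of_ne_two_of_ne_three hq hcon.1 hcon.2
  omega


/-- the conclusion of the theorem -/
def Concl (X : Type*) [Group X] : Prop :=
  (∃ n : ℕ, 5 ≤ n ∧ n ≤ 8 ∧ Nonempty (X ≃* alternatingGroup (Fin n))) ∨
    Nonempty (X ≃* Perm (Fin 5)) ∨ Nonempty (X ≃* Perm (Fin 6)) ∨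
    Nonempty (X ≃* GL (Fin 3) (ZMod 2))

theorem Concl.of_mulEquiv {X Y : Type*} [Group X] [Group Y] (e : X ≃* Y) (h : Concl Y) :
    Concl X := by
  rcases h with ⟨n, h1, h2, h3⟩ | h3 | h3 | h3 <;> obtain ⟨e'⟩ := h3
  · exact Or.inl ⟨n, h1, h2, ⟨e.trans e'⟩⟩
  · exact Or.inr (Or.inl ⟨e.trans e'⟩)
  · exact Or.inr (Or.inr (Or.inl ⟨e.trans e'⟩))
  · exact Or.inr (Or.inr (Or.inr ⟨e.trans e'⟩))

theorem smul_mem_orbit_iff' (H : Subgroup (Perm (Fin 8))) (x y : Fin 8) (h : H) :
    (h : Perm (Fin 8)) y ∈ MulAction.orbit H x ↔ y ∈ MulAction.orbit H x := by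
  have h1 : (h : Perm (Fin 8)) y = h • y := rfl
  rw [h1, ← MulAction.orbit_eq_iff, ← MulAction.orbit_eq_iff, MulAction.orbit_smul]

/-- reduction to a transitive group of degree five to eight -/
theorem main_perm (H : Subgroup (Perm (Fin 8))) (hA : H ≤ alternatingGroup (Fin 8))
    [Nontrivial H] (hR : NoSolv H)
    (deg8 : MulAction.IsPretransitive H (Fin 8) →
      Nonempty (H ≃* alternatingGroup (Fin 8)) ∨ Nonempty (H ≃* GL (Fin 3) (ZMod 2))) :
    Concl H := by
  classical
  have hns := hR.not_solvable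
  obtain ⟨g, hg⟩ := exists_order_five_or_seven H hns
  obtain ⟨p, hp, hgp⟩ : ∃ p, (p = 5 ∨ p = 7) ∧ orderOf g = p := by
    rcases hg with h | h
    · exact ⟨5, Or.inl rfl, h⟩
    · exact ⟨7, Or.inr rfl, h⟩
  have hgp' : orderOf (g : Perm (Fin 8)) = p := by rw [Subgroup.orderOf_coe]; exact hgp
  obtain ⟨hcyc, hsupp⟩ := isCycle_of_order (g : Perm (Fin 8)) p hp hgp'
  obtain ⟨x, hx, -⟩ := id hcyc
  have hsub : ((g : Perm (Fin 8)).support : Set (Fin 8)) ⊆ MulAction.orbit H x := by
    intro y hy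
    rw [Finset.mem_coe, mem_support] at hy
    obtain ⟨i, hi⟩ := hcyc.exists_zpow_eq hx hy
    refine ⟨g ^ i, ?_⟩
    rw [← hi]
    rfl
  have hΔ5 : 5 ≤ (MulAction.orbit H x).ncard := by
    have h1 := Set.ncard_le_ncard hsub
    rw [Set.ncard_coe_finset, hsupp] at h1
    rcases hp with rfl | rfl <;> omega
  have hΔ8 : (MulAction.orbit H x).ncard ≤ 8 := by
    have h1 := Set.ncard_le_card (MulAction.orbit H x)
    rw [Nat.card_fin] at h1
    exact h1
  let φ : H →* Perm (MulAction.orbit H x) := MulAction.toPermHom H (MulAction.orbit H x)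
  have hφ : ∀ (h : H) (y : MulAction.orbit H x),
      ((φ h y : MulAction.orbit H x) : Fin 8) = (h : Perm (Fin 8)) y := fun h y => rfl
  have hker : φ.ker = ⊥ := by
    apply hR _ inferInstance
    apply solvable_of_fix H (MulAction.orbit H x) hΔ5
    intro k hk y hy
    have h1 : φ k = 1 := hk
    have h2 := congrArg (fun f => ((f ⟨y, hy⟩ : MulAction.orbit H x) : Fin 8)) h1
    exact h2
  have hinj : Function.Injective φ := (MonoidHom.ker_eq_bot_iff φ).mp hker
  let e : H ≃* φ.range := MonoidHom.ofInjective hinj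
  have hQns : ¬ Group.IsSolvable φ.range := fun h => hns (by
    have := h
    exact Group.isSolvable_of_isSolvable_injective (f := e.toMonoidHom) e.injective)
  have hcard : Fintype.card (MulAction.orbit H x) = (MulAction.orbit H x).ncard := by
    rw [← Nat.card_eq_fintype_card, Nat.card_coe_set_eq]
  have hm : (MulAction.orbit H x).ncard = 5 ∨ (MulAction.orbit H x).ncard = 6 ∨
      (MulAction.orbit H x).ncard = 7 ∨ (MulAction.orbit H x).ncard = 8 := by omega
  rcases hm with hm | hm | hm | hm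
  · rcases deg5 (hcard.trans hm) φ.range hQns with h3 | h3 <;> obtain ⟨e'⟩ := h3
    · exact Or.inl ⟨5, le_rfl, by norm_num, ⟨e.trans e'⟩⟩
    · exact Or.inr (Or.inl ⟨e.trans e'⟩)
  · rcases deg6 (hcard.trans hm) φ.range hQns with h3 | h3 | h3 | h3 <;> obtain ⟨e'⟩ := h3
    · exact Or.inl ⟨5, le_rfl, by norm_num, ⟨e.trans e'⟩⟩
    · exact Or.inr (Or.inl ⟨e.trans e'⟩)
    · exact Or.inl ⟨6, by norm_num, by norm_num, ⟨e.trans e'⟩⟩
    · exact Or.inr (Or.inr (Or.inl ⟨e.trans e'⟩))
  · have htr : MulAction.IsPretransitive φ.range (MulAction.orbit H x) := by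
      constructor
      intro a b
      obtain ⟨h, hh⟩ := MulAction.exists_smul_eq H a b
      exact ⟨⟨φ h, h, rfl⟩, hh⟩
    have hQA : φ.range ≤ alternatingGroup (MulAction.orbit H x) := by
      rintro _ ⟨h, rfl⟩
      rw [mem_alternatingGroup]
      have hmem : ∀ y, (h : Perm (Fin 8)) y ∈ MulAction.orbit H x ↔ y ∈ MulAction.orbit H x :=
        fun y => smul_mem_orbit_iff' H x y h
      have h1 : φ h = (h : Perm (Fin 8)).subtypePerm hmem := by ext y; rfl
      have h2 : ∀ y, (h : Perm (Fin 8)) y ≠ y → y ∈ MulAction.orbit H x := by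
        intro y hy
        by_contra hyΔ
        have hc : (MulAction.orbit H x)ᶜ.ncard = 1 := by
          rw [Set.ncard_compl, Nat.card_fin, hm]
        rw [Set.ncard_eq_one] at hc
        obtain ⟨z, hz⟩ := hc
        have h3 : (h : Perm (Fin 8)) y ∈ (MulAction.orbit H x)ᶜ :=
          fun hh => hyΔ ((hmem y).mp hh)
        have h4 : y ∈ (MulAction.orbit H x)ᶜ := hyΔ
        rw [hz, Set.mem_singleton_iff] at h3 h4
        exact hy (h3.trans h4.symm)
      have h3 := sign_subtypePerm (h : Perm (Fin 8)) hmem h2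
      rw [h1]
      have h4 : sign (h : Perm (Fin 8)) = 1 := mem_alternatingGroup.mp (hA h.2)
      rw [← h4, ← h3]
    rcases deg7 (hcard.trans hm) φ.range hQns hQA with h3 | h3 <;> obtain ⟨e'⟩ := h3
    · exact Or.inl ⟨7, by norm_num, by norm_num, ⟨e.trans e'⟩⟩
    · exact Or.inr (Or.inr (Or.inr ⟨e.trans e'⟩))
  · have huniv : MulAction.orbit H x = Set.univ := by
      rw [Set.eq_univ_iff_ncard, hm, Nat.card_fin]
    have htr : MulAction.IsPretransitive H (Fin 8) := by
      constructor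
      intro a b
      have ha : a ∈ MulAction.orbit H x := huniv ▸ Set.mem_univ a
      have hb : b ∈ MulAction.orbit H x := huniv ▸ Set.mem_univ b
      obtain ⟨h1, rfl⟩ := ha
      obtain ⟨h2, rfl⟩ := hb
      exact ⟨h2 * h1⁻¹, by simp [mul_smul]⟩
    rcases deg8 htr with h3 | h3 <;> obtain ⟨e'⟩ := h3
    · exact Or.inl ⟨8, by norm_num, le_rfl, ⟨e'⟩⟩
    · exact Or.inr (Or.inr (Or.inr ⟨e'⟩))

end Cfsg.Agent.Lib.Helper5.GL42
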