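import Mathlib
import Cfsg.Agent.Lib.Helper5.GL42.C1
import Cfsg.Agent.Lib.Helper5.GL42.Orbit

/-!
# An involution of `S_8` normalizing a subgroup of order seven is odd
-/

set_option autoImplicit false

namespace Cfsg.Agent.Lib.Helper5.GL42

open Equiv Equiv.Perm

/-- the standard cycle of length seven -/
noncomputable def c7 : Perm (Fin 8) := permOf c7l

/-- the standard reflection -/
noncomputable def r0 : Perm (Fin 8) := permOf r0l

theorem coe_c7 : ⇑c7 = fn c7l := coe_permOf _ (by decide)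

theorem coe_r0 : ⇑r0 = fn r0l := coe_permOf _ (by decide)

theorem c7_pow_seven : c7 ^ 7 = 1 := by
  apply Equiv.ext
  intro i
  rw [← iterate_eq_pow, coe_c7]
  revert i
  decide

theorem c7_ne_one : c7 ≠ 1 := by
  intro h
  have h1 : c7 0 = 0 := by rw [h]; rfl
  rw [coe_c7] at h1
  exact absurd h1 (by decide)

theorem orderOf_c7 : orderOf c7 = 7 :=
  orderOf_eq_prime c7_pow_seven c7_ne_one

theorem sign_c7 : sign c7 = 1 := by
  have h := congrArg sign c7_pow_seven
  rw [map_pow, map_one] at h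
  rcases Int.units_eq_one_or (sign c7) with h1 | h1
  · exact h1
  · rw [h1] at h
    exact absurd h (by decide)

theorem sign_r0 : sign r0 = -1 := by
  have h : r0 = swap 1 6 * swap 2 5 * swap 3 4 := by
    apply Equiv.ext
    intro i
    rw [coe_r0]
    revert i
    decide
  rw [h]
  simp [Perm.sign_mul]

/-- an involution which normalizes the group generated by `c7` is odd -/
theorem sign_of_normalizing (t : Perm (Fin 8)) (ht2 : t * t = 1) (ht1 : t ≠ 1) (k : ℕ)
    (hk : t * c7 = c7 ^ k * t) : sign t = -1 := by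
  have h := c1 t
  unfold P1 at h
  have h1 : ∀ i, t (t i) = i := by
    intro i
    have := congrArg (fun σ : Perm (Fin 8) => σ i) ht2
    simpa using this
  have h2 : ∃ i, t i ≠ i := by
    by_contra hcon
    push Not at hcon
    exact ht1 (Equiv.ext hcon)
  have h3 : ∃ k' : Fin 7, ∀ i, t (fn c7l i) = (fn c7l)^[k'] (t i) := by
    refine ⟨⟨k % 7, Nat.mod_lt _ (by norm_num)⟩, ?_⟩
    intro i
    rw [← coe_c7, iterate_eq_pow]
    have h4 : c7 ^ (k % 7) = c7 ^ k := by
      rw [← orderOf_c7, pow_mod_orderOf]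
    show t (c7 i) = (c7 ^ (k % 7)) (t i)
    rw [h4]
    have := congrArg (fun σ : Perm (Fin 8) => σ i) hk
    simpa using this
  obtain ⟨j, hj⟩ := h h1 h2 h3
  have h5 : t = c7 ^ (j : ℕ) * r0 := by
    apply Equiv.ext
    intro i
    rw [hj i, ← coe_c7, ← coe_r0, iterate_eq_pow]
    rfl
  rw [h5, Perm.sign_mul, map_pow, sign_c7, sign_r0]
  simp

/-- an involution which normalizes a subgroup of order seven of `S_8` is odd -/
theorem sign_of_normalizing' (g t : Perm (Fin 8)) (hg : orderOf g = 7) (ht : orderOf t = 2)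
    (hn : t * g * t⁻¹ ∈ Subgroup.zpowers g) : sign t = -1 := by
  obtain ⟨hcyc, hsupp⟩ := isCycle_of_order g 7 (Or.inr rfl) hg
  obtain ⟨hcyc', hsupp'⟩ := isCycle_of_order c7 7 (Or.inr rfl) orderOf_c7
  have hconj : IsConj g c7 := by
    rw [isConj_iff_cycleType_eq, hcyc.cycleType, hcyc'.cycleType, hsupp, hsupp']
  obtain ⟨τ, hτ⟩ := isConj_iff.mp hconj
  have hpow : t * g * t⁻¹ ∈ Submonoid.powers g :=
    (isOfFinOrder_of_finite g).mem_powers_iff_mem_zpowers.mpr hn
  obtain ⟨k, hk⟩ := hpow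
  change g ^ k = t * g * t⁻¹ at hk
  have ht2 : t * t = 1 := by
    rw [← pow_two, ← ht, pow_orderOf_eq_one]
  have ht1 : t ≠ 1 := by
    intro h
    rw [h, orderOf_one] at ht
    exact absurd ht (by norm_num)
  have key := sign_of_normalizing (τ * t * τ⁻¹) (by
      calc τ * t * τ⁻¹ * (τ * t * τ⁻¹) = τ * (t * t) * τ⁻¹ := by group
        _ = 1 := by rw [ht2]; group) (by
      intro h
      apply ht1
      calc t = τ⁻¹ * (τ * t * τ⁻¹) * τ := by group
        _ = 1 := by rw [h]; group) k (by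
      rw [← hτ]
      have h6 : (τ * g * τ⁻¹) ^ k = τ * g ^ k * τ⁻¹ := conj_pow
      rw [h6, hk]
      group)
  have h8 : sign (τ * t * τ⁻¹) = sign t := by
    rw [Perm.sign_mul, Perm.sign_mul, Perm.sign_inv, mul_comm (sign τ) (sign t), mul_assoc,
      Int.units_mul_self, mul_one]
  rw [← h8]
  exact key

end Cfsg.Agent.Lib.Helper5.GL42
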