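import Mathlib
import Cfsg.Agent.Lib.Helper5.GL42.Brute

/-!
# Tables: a Sylow `2`-subgroup of `A_8` and its two regular normal elementary abelian subgroups
-/

set_option autoImplicit false

namespace Cfsg.Agent.Lib.Helper5.GL42

/-- a Sylow `2`-subgroup of `A_8`, as value lists -/
def S0l : List (List (Fin 8)) :=
  [
   [0,1,2,3,4,5,6,7], [0,1,2,3,5,4,7,6], [0,1,2,3,6,7,4,5], [0,1,2,3,7,6,5,4],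
   [0,1,3,2,4,5,7,6], [0,1,3,2,5,4,6,7], [0,1,3,2,6,7,5,4], [0,1,3,2,7,6,4,5],
   [1,0,2,3,4,5,7,6], [1,0,2,3,5,4,6,7], [1,0,2,3,6,7,5,4], [1,0,2,3,7,6,4,5],
   [1,0,3,2,4,5,6,7], [1,0,3,2,5,4,7,6], [1,0,3,2,6,7,4,5], [1,0,3,2,7,6,5,4],
   [2,3,0,1,4,5,6,7], [2,3,0,1,5,4,7,6], [2,3,0,1,6,7,4,5], [2,3,0,1,7,6,5,4],
   [2,3,1,0,4,5,7,6], [2,3,1,0,5,4,6,7], [2,3,1,0,6,7,5,4], [2,3,1,0,7,6,4,5],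
   [3,2,0,1,4,5,7,6], [3,2,0,1,5,4,6,7], [3,2,0,1,6,7,5,4], [3,2,0,1,7,6,4,5],
   [3,2,1,0,4,5,6,7], [3,2,1,0,5,4,7,6], [3,2,1,0,6,7,4,5], [3,2,1,0,7,6,5,4],
   [4,5,6,7,0,1,2,3], [4,5,6,7,1,0,3,2], [4,5,6,7,2,3,0,1], [4,5,6,7,3,2,1,0],
   [4,5,7,6,0,1,3,2], [4,5,7,6,1,0,2,3], [4,5,7,6,2,3,1,0], [4,5,7,6,3,2,0,1],
   [5,4,6,7,0,1,3,2], [5,4,6,7,1,0,2,3], [5,4,6,7,2,3,1,0], [5,4,6,7,3,2,0,1],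
   [5,4,7,6,0,1,2,3], [5,4,7,6,1,0,3,2], [5,4,7,6,2,3,0,1], [5,4,7,6,3,2,1,0],
   [6,7,4,5,0,1,2,3], [6,7,4,5,1,0,3,2], [6,7,4,5,2,3,0,1], [6,7,4,5,3,2,1,0],
   [6,7,5,4,0,1,3,2], [6,7,5,4,1,0,2,3], [6,7,5,4,2,3,1,0], [6,7,5,4,3,2,0,1],
   [7,6,4,5,0,1,3,2], [7,6,4,5,1,0,2,3], [7,6,4,5,2,3,1,0], [7,6,4,5,3,2,0,1],
   [7,6,5,4,0,1,2,3], [7,6,5,4,1,0,3,2], [7,6,5,4,2,3,0,1], [7,6,5,4,3,2,1,0]]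

/-- the translations of the affine space of order eight -/
def E1l : List (List (Fin 8)) :=
  [
   [0,1,2,3,4,5,6,7], [1,0,3,2,5,4,7,6], [2,3,0,1,6,7,4,5], [3,2,1,0,7,6,5,4],
   [4,5,6,7,0,1,2,3], [5,4,7,6,1,0,3,2], [6,7,4,5,2,3,0,1], [7,6,5,4,3,2,1,0]]

/-- the other regular normal elementary abelian subgroup of `S0l` -/
def E2l : List (List (Fin 8)) :=
  [
   [0,1,2,3,4,5,6,7], [1,0,3,2,5,4,7,6], [2,3,0,1,7,6,5,4], [3,2,1,0,6,7,4,5],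
   [4,5,7,6,0,1,3,2], [5,4,6,7,1,0,2,3], [6,7,5,4,3,2,0,1], [7,6,4,5,2,3,1,0]]

/-- a list of elements of `S0l` used as witnesses -/
def Wit : List (List (Fin 8)) :=
  [
   [0,1,2,3,5,4,7,6], [2,3,1,0,4,5,7,6], [2,3,1,0,5,4,6,7], [0,1,2,3,6,7,4,5],
   [0,1,2,3,7,6,5,4], [3,2,0,1,4,5,7,6], [3,2,0,1,5,4,6,7], [4,5,6,7,0,1,2,3],
   [4,5,7,6,0,1,3,2], [4,5,6,7,2,3,0,1], [4,5,7,6,2,3,1,0], [5,4,6,7,1,0,2,3],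
   [5,4,7,6,1,0,3,2], [5,4,6,7,3,2,0,1], [5,4,7,6,3,2,1,0]]

end Cfsg.Agent.Lib.Helper5.GL42
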