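import Mathlib
import Cfsg.Agent.Lib.Helper5.GL42.ListSub
import Cfsg.Agent.Lib.Helper5.GL42.Tables

/-!
# A Sylow `2`-subgroup of `A_8` and two normal subgroups of it
-/

set_option autoImplicit false

namespace Cfsg.Agent.Lib.Helper5.GL42

open Equiv

/-- the sign of a map, by counting inversions -/
def sgnf (f : Fin 8 → Fin 8) : ℤˣ :=
  ∏ j : Fin 8, ∏ i ∈ Finset.Iio j, (if f i < f j then 1 else -1)

theorem sign_eq_sgnf (σ : Perm (Fin 8)) : Perm.sign σ = sgnf ⇑σ :=
  Equiv.Perm.sign_eq_prod_prod_Iio σ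

/-- the map `f` conjugates the set of maps given by the list `E` into itself -/
def normE (E : List (List (Fin 8))) (f : Fin 8 → Fin 8) : Prop :=
  ∀ e ∈ E, ∃ e' ∈ E, ∀ i, f (fn e i) = fn e' (f i)

instance (E : List (List (Fin 8))) : DecidablePred (normE E) := fun f => by
  unfold normE; infer_instance

/-- the map has a point of period five -/
def has5 (x : Fin 8 → Fin 8) : Prop := ∃ i, x^[5] i = i ∧ x i ≠ i

instance : DecidablePred has5 := fun f => by unfold has5; infer_instance

theorem five_dvd_of_has5 (x : Perm (Fin 8)) (h : has5 ⇑x) : 5 ∣ orderOf x := by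
  obtain ⟨i, h5, h1⟩ := h
  have hp : Function.IsPeriodicPt x 5 i := h5
  have hm : Function.minimalPeriod x i = 5 := by
    have hd := hp.minimalPeriod_dvd
    rcases (Nat.dvd_prime (by norm_num : Nat.Prime 5)).mp hd with h | h
    · exfalso
      apply h1
      have h2 := Function.isPeriodicPt_minimalPeriod x i
      rw [h] at h2
      exact h2
    · exact h
  rw [← hm]
  apply Function.IsPeriodicPt.minimalPeriod_dvd
  show (⇑x)^[orderOf x] i = i
  rw [Equiv.Perm.iterate_eq_pow, pow_orderOf_eq_one]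
  rfl

theorem mem_normalizer_of_normE (L : List (List (Fin 8))) (hL : IsClosedList L)
    (hg : GoodList L) (σ : Perm (Fin 8)) (h : normE L ⇑σ) :
    σ ∈ Subgroup.normalizer ((LS L hL : Subgroup (Perm (Fin 8))) : Set (Perm (Fin 8))) := by
  apply mem_normalizer_of_conj_mem
  intro e he
  obtain ⟨e', he', h1⟩ := h _ he
  rw [mem_LS]
  have h2 : ⇑(σ * e * σ⁻¹) = fn e' := by
    funext j
    have h3 := h1 (σ⁻¹ j)
    rw [fn_ofFn] at h3
    simp only [Perm.coe_mul, Function.comp_apply]
    rw [h3]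
    simp
  rw [h2, ofFn_fn _ (hg e' he').1]
  exact he'

set_option maxRecDepth 100000 in
theorem closed_S0l : IsClosedList S0l := ⟨by decide +kernel, by decide +kernel⟩

set_option maxRecDepth 100000 in
theorem closed_E1l : IsClosedList E1l := ⟨by decide +kernel, by decide +kernel⟩

set_option maxRecDepth 100000 in
theorem closed_E2l : IsClosedList E2l := ⟨by decide +kernel, by decide +kernel⟩

set_option maxRecDepth 100000 in
theorem good_S0l : GoodList S0l := by
  unfold GoodList
  decide +kernel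

set_option maxRecDepth 100000 in
theorem nodup_S0l : S0l.Nodup := by decide +kernel

set_option maxRecDepth 100000 in
theorem even_S0l : ∀ l ∈ S0l, sgnf (fn l) = 1 := by decide +kernel

set_option maxRecDepth 100000 in
theorem E1l_sub : ∀ l ∈ E1l, l ∈ S0l := by decide +kernel

set_option maxRecDepth 100000 in
theorem E2l_sub : ∀ l ∈ E2l, l ∈ S0l := by decide +kernel

set_option maxRecDepth 100000 in
theorem Wit_sub : ∀ l ∈ Wit, l ∈ S0l := by decide +kernel

set_option maxRecDepth 100000 in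
theorem S0l_normE1 : ∀ s ∈ S0l, normE E1l (fn s) := by decide +kernel

set_option maxRecDepth 100000 in
theorem S0l_normE2 : ∀ s ∈ S0l, normE E2l (fn s) := by decide +kernel

theorem good_E1l : GoodList E1l := fun l hl => good_S0l l (E1l_sub l hl)

theorem good_E2l : GoodList E2l := fun l hl => good_S0l l (E2l_sub l hl)

/-- a Sylow `2`-subgroup of `A_8` -/
def S0 : Subgroup (Perm (Fin 8)) := LS S0l closed_S0l

/-- the translations -/
def E1 : Subgroup (Perm (Fin 8)) := LS E1l closed_E1l

/-- the second regular normal subgroup -/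
def E2 : Subgroup (Perm (Fin 8)) := LS E2l closed_E2l

theorem card_S0 : Nat.card S0 = 64 := by
  rw [S0, card_LS _ _ good_S0l nodup_S0l]
  rfl

theorem S0_le_alt : S0 ≤ alternatingGroup (Fin 8) := by
  intro σ hσ
  rw [Perm.mem_alternatingGroup, sign_eq_sgnf]
  have h := even_S0l _ hσ
  rwa [fn_ofFn] at h

theorem E1_le_S0 : E1 ≤ S0 := fun _ hσ => E1l_sub _ hσ

theorem E2_le_S0 : E2 ≤ S0 := fun _ hσ => E2l_sub _ hσ

theorem card_E1_le : Nat.card E1 ≤ 8 := card_LS_le E1l closed_E1l

theorem card_E2_le : Nat.card E2 ≤ 8 := card_LS_le E2l closed_E2l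

theorem S0_le_normalizer_E1 : S0 ≤ Subgroup.normalizer (E1 : Set (Perm (Fin 8))) := by
  intro σ hσ
  apply mem_normalizer_of_normE E1l closed_E1l good_E1l
  have h := S0l_normE1 _ hσ
  rwa [fn_ofFn] at h

theorem S0_le_normalizer_E2 : S0 ≤ Subgroup.normalizer (E2 : Set (Perm (Fin 8))) := by
  intro σ hσ
  apply mem_normalizer_of_normE E2l closed_E2l good_E2l
  have h := S0l_normE2 _ hσ
  rwa [fn_ofFn] at h

/-- a common element of `E1` and `E2` -/
noncomputable def z0 : Perm (Fin 8) := permOf [1,0,3,2,5,4,7,6]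

theorem z0_ne_one : z0 ≠ 1 := by
  intro h
  have h1 : z0 0 = 0 := by rw [h]; rfl
  have h2 : ⇑z0 = fn [1,0,3,2,5,4,7,6] := coe_permOf _ (by decide)
  rw [h2] at h1
  exact absurd h1 (by decide)

theorem z0_mem_E1 : z0 ∈ E1 := permOf_mem_LS E1l closed_E1l good_E1l _ (by decide)

theorem z0_mem_E2 : z0 ∈ E2 := permOf_mem_LS E2l closed_E2l good_E2l _ (by decide)

theorem E1_ne_bot : E1 ≠ ⊥ := fun h => z0_ne_one ((Subgroup.mem_bot).mp (h ▸ z0_mem_E1))

theorem E2_ne_bot : E2 ≠ ⊥ := fun h => z0_ne_one ((Subgroup.mem_bot).mp (h ▸ z0_mem_E2))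

end Cfsg.Agent.Lib.Helper5.GL42
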