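import Mathlib
import Cfsg.Agent.Lib.Helper5.GL42.S0

/-!
# A check on all elements of order seven of `S_8`: the property
-/

set_option autoImplicit false

namespace Cfsg.Agent.Lib.Helper5.GL42

open Equiv

/-- the property checked on all permutations -/
def P2 (f : Fin 8 → Fin 8) : Prop :=
  (∀ i, f^[7] i = i) → (∃ i, f i ≠ i) →
    normE E1l f ∨ normE E2l f ∨ ∃ w ∈ Wit, has5 (fun i => fn w (f i))

instance : DecidablePred P2 := fun f => by unfold P2; infer_instance

end Cfsg.Agent.Lib.Helper5.GL42
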