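import Mathlib
import Cfsg.Agent.Lib.Helper5.GL42.C2Def

/-!
# A check on all elements of order seven of `S_8`: first value in `[4, 5]`
-/

set_option autoImplicit false

namespace Cfsg.Agent.Lib.Helper5.GL42

open Equiv

set_option maxHeartbeats 0 in
set_option maxRecDepth 100000 in
theorem c2_4 : ∀ b : Fin 8, (4 : Fin 8) ≠ b → chunk P2 4 b = true := by
  intro b hab
  fin_cases b <;> first | exact absurd rfl hab | skip
  all_goals clear hab
  all_goals decide +kernel

set_option maxHeartbeats 0 in
set_option maxRecDepth 100000 in
theorem c2_5 : ∀ b : Fin 8, (5 : Fin 8) ≠ b → chunk P2 5 b = true := by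
  intro b hab
  fin_cases b <;> first | exact absurd rfl hab | skip
  all_goals clear hab
  all_goals decide +kernel

end Cfsg.Agent.Lib.Helper5.GL42
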