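import Mathlib
import Cfsg.Agent.Lib.Helper5.GL42.C2a
import Cfsg.Agent.Lib.Helper5.GL42.C2b
import Cfsg.Agent.Lib.Helper5.GL42.C2c
import Cfsg.Agent.Lib.Helper5.GL42.C2d

/-!
# A check on all elements of order seven of `S_8`
-/

set_option autoImplicit false

namespace Cfsg.Agent.Lib.Helper5.GL42

open Equiv

theorem c2 (σ : Perm (Fin 8)) : P2 ⇑σ := by
  apply forall_perm8'
  intro a b hab
  fin_cases a
  · exact c2_0 b hab
  · exact c2_1 b hab
  · exact c2_2 b hab
  · exact c2_3 b hab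
  · exact c2_4 b hab
  · exact c2_5 b hab
  · exact c2_6 b hab
  · exact c2_7 b hab

end Cfsg.Agent.Lib.Helper5.GL42
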