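import Mathlib
import Cfsg.Agent.S0713
import Cfsg.Agent.Lib.Helper5.GL42.Orbit

/-!
# Transitive subgroups of `A_8` without solvable normal subgroups
-/

set_option autoImplicit false

namespace Cfsg.Agent.Lib.Helper5.GL42

open Equiv Equiv.Perm MulAction
open scoped Pointwise

theorem mem_of_zpow_mem {G : Type*} [Group G] (S : Subgroup G) (g : G) (p : ℕ) (hp : p.Prime)
    (hg : orderOf g = p) (i : ℤ) (hi : g ^ i ∈ S) (hne : g ^ i ≠ 1) : g ∈ S := by
  have : Fact p.Prime := ⟨hp⟩
  have hc : Nat.card (Subgroup.zpowers g) = p := by rw [Nat.card_zpowers, hg]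
  let a : Subgroup.zpowers g := ⟨g ^ i, Subgroup.zpow_mem_zpowers g i⟩
  have ha : a ≠ 1 := fun h => hne (congrArg Subtype.val h)
  have h1 : (⟨g, Subgroup.mem_zpowers g⟩ : Subgroup.zpowers g) ∈ Subgroup.zpowers a :=
    mem_zpowers_of_prime_card hc ha
  obtain ⟨j, hj⟩ := Subgroup.mem_zpowers_iff.mp h1
  have h2 : (g ^ i) ^ j = g := congrArg Subtype.val hj
  rw [← h2]
  exact S.zpow_mem hi j

/-- a transitive group of degree eight containing an element of order five or seven is
primitive -/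
theorem preprimitive_of_cycle (H : Subgroup (Perm (Fin 8))) [IsPretransitive H (Fin 8)]
    (g : H) (p : ℕ) (hp : p = 5 ∨ p = 7) (hg : orderOf g = p) : IsPreprimitive H (Fin 8) := by
  refine { isTrivialBlock_of_isBlock := ?_ }
  intro B hB
  by_contra htriv
  unfold IsTrivialBlock at htriv
  push Not at htriv
  obtain ⟨hns, hnu⟩ := htriv
  have hne : B.Nonempty := hns.nonempty
  have hdvd := hB.ncard_dvd_card hne
  rw [Nat.card_fin] at hdvd
  have h8 : B.ncard ≠ 8 := fun h => hnu ((Set.eq_univ_iff_ncard B).mpr (by rw [h, Nat.card_fin]))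
  have hle : B.ncard ≤ 4 := by
    have key : ∀ d ∈ Nat.divisors 8, d ≠ 8 → d ≤ 4 := by decide
    exact key _ (Nat.mem_divisors.mpr ⟨hdvd, by norm_num⟩) h8
  have hpp : p.Prime := by rcases hp with rfl | rfl <;> norm_num
  obtain ⟨hcyc, hsupp⟩ := isCycle_of_order (g : Perm (Fin 8)) p hp
    (by rw [Subgroup.orderOf_coe]; exact hg)
  obtain ⟨y, hy, -⟩ := id hcyc
  obtain ⟨b, hb⟩ := hne
  obtain ⟨h, hh⟩ := exists_smul_eq H b y
  have hB'blk : IsBlock H (h • B) := hB.translate h
  have hyB' : y ∈ h • B := ⟨b, hb, hh⟩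
  have hcard' : (h • B).ncard = B.ncard := Set.ncard_smul_set h B
  obtain ⟨y', hy'B, hy'ne⟩ : ∃ y' ∈ h • B, y' ≠ y := by
    obtain ⟨c, hc, hcb⟩ := hns.exists_ne b
    refine ⟨h • c, Set.smul_mem_smul_set hc, ?_⟩
    rw [← hh]
    exact fun h2 => hcb ((MulAction.injective h) h2)
  have hfix : g ∈ stabilizer H (h • B) := by
    by_cases hy'fix : (g : Perm (Fin 8)) y' = y'
    · rw [mem_stabilizer_iff]
      exact hB'blk.smul_eq_of_mem hy'B (by
        have h1 : g • y' = y' := hy'fix
        rw [h1]; exact hy'B)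
    · obtain ⟨i, hi⟩ := hcyc.exists_zpow_eq hy hy'fix
      have h1 : (g ^ i) • y = y' := by
        rw [← hi]; rfl
      have h2 : g ^ i ∈ stabilizer H (h • B) := by
        rw [mem_stabilizer_iff]
        exact hB'blk.smul_eq_of_mem hyB' (by rw [h1]; exact hy'B)
      have h3 : g ^ i ≠ 1 := by
        intro h3
        rw [h3, one_smul] at h1
        exact hy'ne h1.symm
      exact mem_of_zpow_mem _ g p hpp hg i h2 h3
  have hsub : ((g : Perm (Fin 8)).support : Set (Fin 8)) ⊆ h • B := by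
    intro z hz
    rw [Finset.mem_coe, mem_support] at hz
    obtain ⟨i, hi⟩ := hcyc.exists_zpow_eq hy hz
    have h1 : (g ^ i) • y = z := by
      rw [← hi]; rfl
    have h2 : g ^ i ∈ stabilizer H (h • B) := Subgroup.zpow_mem _ hfix i
    rw [mem_stabilizer_iff] at h2
    rw [← h2, ← h1]
    exact Set.smul_mem_smul_set hyB'
  have h9 := Set.ncard_le_ncard hsub
  rw [Set.ncard_coe_finset, hsupp, hcard'] at h9
  rcases hp with rfl | rfl <;> omega

end Cfsg.Agent.Lib.Helper5.GL42
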