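import Mathlib
import Cfsg.Agent.Lib.Helper5.GL42.C1b
import Cfsg.Agent.Lib.Helper5.GL42.Deg8

/-!
# The order of a transitive subgroup of `A_8` of order prime to five
-/

set_option autoImplicit false

namespace Cfsg.Agent.Lib.Helper5.GL42

open Equiv Equiv.Perm MulAction Subgroup

theorem not_49_dvd (H : Subgroup (Perm (Fin 8))) : ¬ 49 ∣ Nat.card H := fun h =>
  absurd (h.trans (card_dvd_40320 H)) (by decide)

/-- the centralizer in `S_8` of an element of order seven has order seven -/
theorem card_centralizer_seven (γ : Perm (Fin 8)) (hγ : orderOf γ = 7) :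
    Nat.card (Subgroup.centralizer {γ}) = 7 := by
  obtain ⟨hcyc, hsupp⟩ := isCycle_of_order γ 7 (Or.inr rfl) hγ
  rw [nat_card_centralizer, hcyc.cycleType, hsupp]
  simp

/-- the normalizer of a Sylow `7`-subgroup in a subgroup of `A_8` has order `7` or `21` -/
theorem card_normalizer_seven (H : Subgroup (Perm (Fin 8))) (hA : H ≤ alternatingGroup (Fin 8))
    [Fact (Nat.Prime 7)] (P : Sylow 7 H) (hP : Nat.card P = 7) :
    Nat.card (normalizer ((P : Subgroup H) : Set H)) = 7 ∨
      Nat.card (normalizer ((P : Subgroup H) : Set H)) = 21 := by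
  classical
  have hcycP : IsCyclic P := isCyclic_of_prime_card hP
  obtain ⟨g₁, hg₁⟩ := exists_prime_orderOf_dvd_card' (G := P) 7 (by rw [hP])
  set γ : Perm (Fin 8) := ((g₁ : H) : Perm (Fin 8)) with hγdef
  have hγ : orderOf γ = 7 := by
    rw [hγdef, Subgroup.orderOf_coe, Subgroup.orderOf_coe]; exact hg₁
  have hg₁ne : g₁ ≠ 1 := by
    intro h
    rw [h, orderOf_one] at hg₁
    exact absurd hg₁ (by norm_num)
  have hPz : ∀ x : H, x ∈ (P : Subgroup H) → ∃ i : ℤ, (g₁ : H) ^ i = x := by
    intro x hx
    have h1 : (⟨x, hx⟩ : P) ∈ Subgroup.zpowers g₁ := mem_zpowers_of_prime_card hP hg₁ne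
    obtain ⟨i, hi⟩ := Subgroup.mem_zpowers_iff.mp h1
    exact ⟨i, by
      have := congrArg Subtype.val hi
      simpa using this⟩
  set N := normalizer ((P : Subgroup H) : Set H) with hN
  set C := centralizer ((P : Subgroup H) : Set H) with hC
  have hCN : C ≤ N := centralizer_le_normalizer _
  have hPC : (P : Subgroup H) ≤ C := by
    intro x hx
    rw [hC, mem_centralizer_iff]
    intro y hy
    let _ := IsCyclic.commGroup (α := P)
    exact congrArg Subtype.val (mul_comm (⟨y, hy⟩ : P) ⟨x, hx⟩)
  have hCcard : Nat.card C = 7 := by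
    apply le_antisymm
    · have h1 : Nat.card C ≤ Nat.card (Subgroup.centralizer {γ}) :=
        Nat.card_le_card_of_injective
          (fun c => ⟨((c : H) : Perm (Fin 8)), by
            rw [mem_centralizer_iff]
            intro h hh
            rw [Set.mem_singleton_iff] at hh
            subst hh
            have h2 := (mem_centralizer_iff.mp c.2) (g₁ : H) g₁.2
            exact congrArg Subtype.val h2⟩) (by
            intro c c' hcc
            have h3 : ((c : H) : Perm (Fin 8)) = ((c' : H) : Perm (Fin 8)) := by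
              have := congrArg Subtype.val hcc
              simpa using this
            exact Subtype.ext (Subtype.ext h3))
      rw [card_centralizer_seven γ hγ] at h1
      exact h1
    · rw [← hP]
      exact Subgroup.card_le_of_le hPC
  have key := card_dvd_of_injective _
    (QuotientGroup.kerLift_injective (P : Subgroup H).normalizerMonoidHom)
  rw [normalizerMonoidHom_ker, ← index, ← relIndex, hcycP.card_mulAut, hP] at key
  have h6 : Nat.totient 7 = 6 := by decide
  rw [h6] at key
  have hmul : Nat.card (C.subgroupOf N) * (C.subgroupOf N).index = Nat.card N :=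
    Subgroup.card_mul_index _
  have hcs : Nat.card (C.subgroupOf N) = 7 := by
    rw [Nat.card_congr (subgroupOfEquivOfLe hCN).toEquiv, hCcard]
  rw [hcs] at hmul
  have hr : C.relIndex N = (C.subgroupOf N).index := rfl
  rw [hr] at key
  -- no involution in the normalizer
  have hodd : ¬ 2 ∣ Nat.card N := by
    intro h2
    have : Fact (Nat.Prime 2) := ⟨Nat.prime_two⟩
    obtain ⟨t, ht⟩ := exists_prime_orderOf_dvd_card' (G := N) 2 h2
    set τ : Perm (Fin 8) := ((t : H) : Perm (Fin 8)) with hτdef
    have hτ : orderOf τ = 2 := by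
      rw [hτdef, Subgroup.orderOf_coe, Subgroup.orderOf_coe]; exact ht
    have h3 := (mem_normalizer_iff.mp t.2 (g₁ : H)).mp g₁.2
    obtain ⟨i, hi⟩ := hPz _ h3
    have h4 : τ * γ * τ⁻¹ ∈ Subgroup.zpowers γ := by
      refine Subgroup.mem_zpowers_iff.mpr ⟨i, ?_⟩
      have := congrArg (Subtype.val : H → Perm (Fin 8)) hi
      simpa using this
    have h5 := sign_of_normalizing' γ τ hγ hτ h4
    have h7 : sign τ = 1 := mem_alternatingGroup.mp (hA (t : H).2)
    rw [h7] at h5
    exact absurd h5 (by decide)
  have hr2 : (C.subgroupOf N).index = 1 ∨ (C.subgroupOf N).index = 3 := by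
    have hne : ¬ 2 ∣ (C.subgroupOf N).index := fun h =>
      hodd (hmul ▸ Dvd.dvd.mul_left h 7)
    have key2 : ∀ d ∈ Nat.divisors 6, ¬ 2 ∣ d → d = 1 ∨ d = 3 := by decide
    exact key2 _ (Nat.mem_divisors.mpr ⟨key, by norm_num⟩) hne
  rcases hr2 with h | h
  · left; rw [← hmul, h]
  · right; rw [← hmul, h]

end Cfsg.Agent.Lib.Helper5.GL42
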