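import Mathlib
import Cfsg.Agent.Lib.Helper5.GL42.Syl7
import Cfsg.Agent.Lib.Helper5.GL42.Glue

/-!
# Transitive subgroups of `A_8` without solvable normal subgroups: the possible orders
-/

set_option autoImplicit false

namespace Cfsg.Agent.Lib.Helper5.GL42

open Equiv Equiv.Perm MulAction Subgroup

/-- a transitive subgroup of `A_8` of order divisible by five is `A_8` -/
theorem deg8_five (H : Subgroup (Perm (Fin 8))) (hA : H ≤ alternatingGroup (Fin 8))
    [IsPretransitive H (Fin 8)] (h5 : 5 ∣ Nat.card H) :
    Nonempty (H ≃* alternatingGroup (Fin 8)) := by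
  have : Fact (Nat.Prime 5) := ⟨by norm_num⟩
  obtain ⟨g, hg⟩ := exists_prime_orderOf_dvd_card' 5 h5
  have hprim := preprimitive_of_cycle H g 5 (Or.inl rfl) hg
  obtain ⟨hcyc, hsupp⟩ := isCycle_of_order (g : Perm (Fin 8)) 5 (Or.inl rfl)
    (by rw [Subgroup.orderOf_coe]; exact hg)
  have h1 : alternatingGroup (Fin 8) ≤ H :=
    Cfsg.Agent.S0713.result H hprim (p := 5) (by norm_num) (by simp) (by simp) hcyc hsupp g.2
  exact ⟨MulEquiv.subgroupCongr (le_antisymm hA h1)⟩

theorem eight_dvd_card (H : Subgroup (Perm (Fin 8))) [IsPretransitive H (Fin 8)] :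
    8 ∣ Nat.card H := by
  have h1 := index_stabilizer_of_transitive (G := H) (x := (0 : Fin 8))
  rw [Nat.card_fin] at h1
  have h2 := Subgroup.index_dvd_card (stabilizer H (0 : Fin 8))
  rw [h1] at h2
  exact h2

/-- the order of a transitive subgroup of `A_8` of order prime to five without solvable normal
subgroups -/
theorem card_of_seven (H : Subgroup (Perm (Fin 8))) (hA : H ≤ alternatingGroup (Fin 8))
    [IsPretransitive H (Fin 8)] [Nontrivial H] (hR : NoSolv H) (h5 : ¬ 5 ∣ Nat.card H) :
    Nat.card H = 168 ∨ Nat.card H = 1344 := by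
  classical
  have hns := hR.not_solvable
  have : Fact (Nat.Prime 7) := ⟨by norm_num⟩
  have h7 : 7 ∣ Nat.card H := by
    obtain ⟨g, hg⟩ := exists_order_five_or_seven H hns
    rcases hg with hg | hg
    · exact absurd (hg ▸ orderOf_dvd_natCard g) h5
    · exact hg ▸ orderOf_dvd_natCard g
  obtain ⟨P⟩ : Nonempty (Sylow 7 H) := inferInstance
  have hP : Nat.card P = 7 := by
    obtain ⟨k, hk⟩ := P.2.exists_card_eq
    have h1 : 7 ∣ Nat.card P := P.dvd_card_of_dvd_card h7
    have h2 : Nat.card P ∣ Nat.card H := Subgroup.card_subgroup_dvd_card _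
    rw [hk] at h1 h2 ⊢
    rcases k with _ | _ | k
    · norm_num at h1
    · norm_num
    · exfalso
      apply not_49_dvd H
      refine Dvd.dvd.trans ?_ h2
      exact ⟨7 ^ k, by ring⟩
  have h8 := eight_dvd_card H
  have hdvd := card_dvd_40320 H
  have hprimes : ∀ p : ℕ, p.Prime → p ∣ Nat.card H → p = 2 ∨ p = 3 ∨ p = 7 := by
    intro p hp hpd
    rcases prime_dvd_40320 p hp (hpd.trans hdvd) with h | h | h | h
    · exact Or.inl h
    · exact Or.inr (Or.inl h)
    · exact absurd (h ▸ hpd) h5
    · exact Or.inr (Or.inr h)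
  rcases card_normalizer_seven H hA P hP with hN | hN
  · -- the Sylow subgroup is self-normalizing: a normal complement
    exfalso
    have hNP : normalizer ((P : Subgroup H) : Set H) = (P : Subgroup H) := by
      symm
      apply Subgroup.eq_of_le_of_card_ge le_normalizer
      rw [hN, hP]
    have hcycP : IsCyclic P := isCyclic_of_prime_card hP
    have hle : normalizer ((P : Subgroup H) : Set H) ≤ centralizer ((P : Subgroup H) : Set H) := by
      rw [hNP]
      intro x hx
      rw [mem_centralizer_iff]
      intro y hy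
      let _ := IsCyclic.commGroup (α := P)
      exact congrArg Subtype.val (mul_comm (⟨y, hy⟩ : P) ⟨x, hx⟩)
    have hcomp := MonoidHom.ker_transferSylow_isComplement' P hle
    have hcard := hcomp.card_mul_card
    rw [hP] at hcard
    set K := (MonoidHom.transferSylow P hle).ker with hK
    have hKs : Group.IsSolvable K := by
      apply solvable_of_two_three
      intro p hp hpd
      have hpd' : p ∣ Nat.card H := hpd.trans (Subgroup.card_subgroup_dvd_card _)
      rcases hprimes p hp hpd' with h | h | h
      · exact Or.inl h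
      · exact Or.inr h
      · exfalso
        subst h
        apply not_49_dvd H
        rw [← hcard]
        exact Nat.mul_dvd_mul hpd (dvd_refl 7)
    have hKbot : K = ⊥ := hR K (MonoidHom.normal_ker _) hKs
    rw [hKbot, Subgroup.card_bot, one_mul] at hcard
    exact hns (solvable_of_card_lt (by rw [← hcard]; norm_num))
  · -- the normalizer has order 21
    have h1 : Nat.card (Sylow 7 H) = (normalizer ((P : Subgroup H) : Set H)).index :=
      P.card_eq_index_normalizer
    have h2 := card_sylow_modEq_one 7 H
    have h3 := Subgroup.card_mul_index (normalizer ((P : Subgroup H) : Set H))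
    rw [hN, ← h1] at h3
    set n := Nat.card (Sylow 7 H) with hn
    have h4 : n % 7 = 1 := h2
    have h9 : Nat.card H ∣ 8064 := by
      have hc : Nat.Coprime (Nat.card H) 5 :=
        ((Nat.Prime.coprime_iff_not_dvd (by norm_num)).mpr h5).symm
      have h10 : Nat.card H ∣ 5 * 8064 := hdvd
      exact hc.dvd_of_dvd_mul_left h10
    rw [← h3] at h9 h8 ⊢
    have h11 : n ∣ 384 := by
      have h12 : 21 * n ∣ 21 * 384 := h9
      exact Nat.dvd_of_mul_dvd_mul_left (by norm_num) h12
    have h13 : 8 ∣ n := by
      have hc : Nat.Coprime 8 21 := by norm_num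
      exact hc.dvd_of_dvd_mul_left h8
    have key : ∀ d ∈ Nat.divisors 384, 8 ∣ d → d % 7 = 1 → d = 8 ∨ d = 64 := by decide
    rcases key n (Nat.mem_divisors.mpr ⟨h11, by norm_num⟩) h13 h4 with h | h
    · left; rw [h]
    · right; rw [h]

/-- transitive subgroups of `A_8` without solvable normal subgroups, if no such group has order
`1344` -/
theorem deg8_main (H : Subgroup (Perm (Fin 8))) (hA : H ≤ alternatingGroup (Fin 8))
    [Nontrivial H] (hR : NoSolv H) (k1344 : Nat.card H = 1344 → False)
    (htr : IsPretransitive H (Fin 8)) :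
    Nonempty (H ≃* alternatingGroup (Fin 8)) ∨ Nonempty (H ≃* GL (Fin 3) (ZMod 2)) := by
  by_cases h5 : 5 ∣ Nat.card H
  · exact Or.inl (deg8_five H hA h5)
  · rcases card_of_seven H hA hR h5 with h | h
    · right
      have := simple_of_card_168 hR h
      exact equiv_gl3_of_simple h
    · exact absurd h k1344

end Cfsg.Agent.Lib.Helper5.GL42
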