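import Mathlib
import Cfsg.Agent.Lib.Helper5.GL42.C2
import Cfsg.Agent.Lib.Helper5.GL42.Basic

/-!
# A subgroup of order `1344` of `A_8` has a nontrivial solvable normal subgroup
-/

set_option autoImplicit false

namespace Cfsg.Agent.Lib.Helper5.GL42

open Equiv Subgroup

/-- the case where an element of order seven normalizes a small normal subgroup of `S0` -/
theorem norm_case (H : Subgroup (Perm (Fin 8))) (hcard : Nat.card H = 1344) (hS : S0 ≤ H)
    (hR : NoSolv H) (E : Subgroup (Perm (Fin 8))) (hES : E ≤ S0) (hE8 : Nat.card E ≤ 8)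
    (hEne : E ≠ ⊥) (hSN : S0 ≤ normalizer (E : Set (Perm (Fin 8))))
    (g : H) (hg : orderOf g = 7) (hgN : (g : Perm (Fin 8)) ∈ normalizer (E : Set (Perm (Fin 8)))) :
    False := by
  classical
  have hEH : E ≤ H := hES.trans hS
  set M : Subgroup H := (normalizer (E : Set (Perm (Fin 8)))).subgroupOf H with hM
  have hE'card : Nat.card (E.subgroupOf H) = Nat.card E :=
    Nat.card_congr (subgroupOfEquivOfLe hEH).toEquiv
  have hE's : Group.IsSolvable (E.subgroupOf H) :=
    solvable_of_card_lt (by rw [hE'card]; omega)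
  have hE'ne : E.subgroupOf H ≠ ⊥ := by
    intro h
    rw [subgroupOf_eq_bot, disjoint_iff, inf_eq_left.mpr hEH] at h
    exact hEne h
  -- the order of `M`
  have h64 : 64 ∣ Nat.card M := by
    have h1 : S0.subgroupOf H ≤ M := by
      intro x hx
      exact hSN hx
    have h2 : Nat.card (S0.subgroupOf H) = 64 := by
      rw [Nat.card_congr (subgroupOfEquivOfLe hS).toEquiv, card_S0]
    rw [← h2]
    exact Subgroup.card_dvd_of_le h1
  have h7 : 7 ∣ Nat.card M := by
    have h1 : orderOf (⟨g, hgN⟩ : M) = 7 := by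
      rw [← hg, ← Subgroup.orderOf_coe]
    rw [← h1]
    exact orderOf_dvd_natCard _
  have h448 : 448 ∣ Nat.card M := by
    have hc : Nat.Coprime 64 7 := by norm_num
    exact hc.mul_dvd_of_dvd_of_dvd h64 h7
  have hMdvd : Nat.card M ∣ 1344 := hcard ▸ Subgroup.card_subgroup_dvd_card M
  have hMcases : Nat.card M = 448 ∨ Nat.card M = 1344 := by
    obtain ⟨m, hm⟩ := h448
    rw [hm] at hMdvd ⊢
    have h3 : 448 * m ∣ 448 * 3 := hMdvd
    have h4 : m ∣ 3 := Nat.dvd_of_mul_dvd_mul_left (by norm_num) h3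
    rcases (Nat.dvd_prime Nat.prime_three).mp h4 with h | h
    · left; rw [h]
    · right; rw [h]
  rcases hMcases with hM1 | hM1
  · -- index three: the normal core is solvable and nontrivial
    have hMs : Group.IsSolvable M :=
      Cfsg.Agent.S0144.result 2 7 6 1 Nat.prime_two (by norm_num) (by rw [hM1]; norm_num)
    have hcs : Group.IsSolvable M.normalCore := by
      have := hMs
      exact Group.isSolvable_of_isSolvable_injective
        (f := Subgroup.inclusion (Subgroup.normalCore_le M))
        (Subgroup.inclusion_injective _)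
    have hcb : M.normalCore = ⊥ := hR _ inferInstance hcs
    rw [Subgroup.normalCore_eq_ker] at hcb
    have hinj : Function.Injective (MulAction.toPermHom H (H ⧸ M)) :=
      (MonoidHom.ker_eq_bot_iff _).mp hcb
    have h1 := Subgroup.card_dvd_of_injective _ hinj
    have : Fintype (H ⧸ M) := Fintype.ofFinite _
    rw [Nat.card_eq_fintype_card (α := Equiv.Perm (H ⧸ M)), Fintype.card_perm,
      ← Nat.card_eq_fintype_card] at h1
    have h3 : Nat.card (H ⧸ M) = 3 := by
      have h4 := Subgroup.card_eq_card_quotient_mul_card_subgroup M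
      rw [hcard, hM1] at h4
      omega
    rw [h3, hcard] at h1
    exact absurd h1 (by decide)
  · -- `E` is normal
    have hMtop : M = ⊤ := Subgroup.eq_top_of_card_eq _ (by rw [hM1, hcard])
    have hle : H ≤ normalizer (E : Set (Perm (Fin 8))) := by
      intro x hx
      have : (⟨x, hx⟩ : H) ∈ M := by rw [hMtop]; exact Subgroup.mem_top _
      exact this
    have hn : (E.subgroupOf H).Normal := (normal_subgroupOf_iff_le_normalizer hEH).mpr hle
    exact hE'ne (hR _ hn hE's)

/-- a subgroup of order `1344` of `S_8` which contains `S0` has a nontrivial solvable normal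
subgroup -/
theorem k1344_aux (H : Subgroup (Perm (Fin 8))) (hcard : Nat.card H = 1344) (hS : S0 ≤ H)
    (hR : NoSolv H) : False := by
  classical
  have : Fact (Nat.Prime 7) := ⟨by norm_num⟩
  obtain ⟨g, hg⟩ := exists_prime_orderOf_dvd_card' (G := H) 7 (by rw [hcard]; norm_num)
  set γ : Perm (Fin 8) := (g : Perm (Fin 8)) with hγdef
  have hγ : orderOf γ = 7 := by rw [hγdef, Subgroup.orderOf_coe]; exact hg
  have h1 : ∀ i, (⇑γ)^[7] i = i := by
    intro i
    rw [Equiv.Perm.iterate_eq_pow, ← hγ, pow_orderOf_eq_one]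
    rfl
  have h2 : ∃ i, γ i ≠ i := by
    by_contra hcon
    push Not at hcon
    have h3 : γ = 1 := Equiv.ext hcon
    rw [h3, orderOf_one] at hγ
    exact absurd hγ (by norm_num)
  rcases c2 γ h1 h2 with h | h | ⟨w, hw, h⟩
  · exact norm_case H hcard hS hR E1 E1_le_S0 card_E1_le E1_ne_bot S0_le_normalizer_E1 g hg
      (mem_normalizer_of_normE E1l closed_E1l good_E1l γ h)
  · exact norm_case H hcard hS hR E2 E2_le_S0 card_E2_le E2_ne_bot S0_le_normalizer_E2 g hg
      (mem_normalizer_of_normE E2l closed_E2l good_E2l γ h)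
  · -- an element of order divisible by five
    have hwS : w ∈ S0l := Wit_sub w hw
    have hs : permOf w ∈ S0 := permOf_mem_LS S0l closed_S0l good_S0l w hwS
    have hx : permOf w * γ ∈ H := H.mul_mem (hS hs) g.2
    have hcoe : ⇑(permOf w * γ) = fun i => fn w (γ i) := by
      funext i
      rw [Perm.coe_mul, Function.comp_apply, coe_permOf _ (good_S0l w hwS).2]
    have h5 : 5 ∣ orderOf (permOf w * γ) := five_dvd_of_has5 _ (by rw [hcoe]; exact h)
    have h6 : orderOf (permOf w * γ) ∣ Nat.card H := by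
      have h7 := orderOf_dvd_natCard (⟨permOf w * γ, hx⟩ : H)
      rwa [← Subgroup.orderOf_coe] at h7
    rw [hcard] at h6
    exact absurd (h5.trans h6) (by decide)

/-- a subgroup of order `1344` of `A_8` has a nontrivial solvable normal subgroup -/
theorem k1344 (H : Subgroup (Perm (Fin 8))) (hA : H ≤ alternatingGroup (Fin 8))
    (hcard : Nat.card H = 1344) (hR : NoSolv H) : False := by
  classical
  have : Fact (Nat.Prime 2) := ⟨Nat.prime_two⟩
  set A := alternatingGroup (Fin 8) with hAdef
  have hAcard : Nat.card A = 20160 := by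
    rw [nat_card_alternatingGroup, Nat.card_fin]
    decide
  have hfact : (Nat.card A).factorization 2 = 6 := by
    rw [hAcard, show (20160 : ℕ) = 2 ^ 6 * 315 by norm_num,
      Nat.factorization_mul (by norm_num) (by norm_num),
      Nat.Prime.factorization_pow Nat.prime_two]
    simp [Nat.factorization_eq_zero_of_not_dvd (show ¬ 2 ∣ 315 by norm_num)]
  obtain ⟨T, hT⟩ := Sylow.exists_subgroup_card_pow_prime (G := H) 2 (n := 6)
    (by rw [hcard]; norm_num)
  set T' : Subgroup (Perm (Fin 8)) := T.map H.subtype with hT'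
  have hT'card : Nat.card T' = 64 := by
    rw [hT', Subgroup.card_map_of_injective H.subtype_injective, hT]
    norm_num
  have hT'H : T' ≤ H := Subgroup.map_subtype_le T
  have hT'A : T' ≤ A := hT'H.trans hA
  set TA : Subgroup A := T'.subgroupOf A with hTAdef
  set SA : Subgroup A := S0.subgroupOf A with hSAdef
  have hTA : Nat.card TA = 2 ^ (Nat.card A).factorization 2 := by
    rw [hfact, Nat.card_congr (subgroupOfEquivOfLe hT'A).toEquiv, hT'card]
    norm_num
  have hSA : Nat.card SA = 2 ^ (Nat.card A).factorization 2 := by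
    rw [hfact, Nat.card_congr (subgroupOfEquivOfLe S0_le_alt).toEquiv, card_S0]
    norm_num
  obtain ⟨a, ha⟩ := MulAction.exists_smul_eq A (Sylow.ofCard SA hSA) (Sylow.ofCard TA hTA)
  have hconj : ∀ s ∈ S0, (a : Perm (Fin 8)) * s * (a : Perm (Fin 8))⁻¹ ∈ H := by
    intro s hs
    have h1 : (⟨s, S0_le_alt hs⟩ : A) ∈ SA := hs
    have h2 : a * ⟨s, S0_le_alt hs⟩ * a⁻¹ ∈
        ((a • Sylow.ofCard SA hSA : Sylow 2 A) : Subgroup A) := by
      rw [Sylow.coe_subgroup_smul]
      exact Subgroup.smul_mem_pointwise_smul _ (MulAut.conj a) _ h1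
    rw [ha] at h2
    exact hT'H h2
  set c : Perm (Fin 8) ≃* Perm (Fin 8) := MulAut.conj (a : Perm (Fin 8))⁻¹ with hc
  set H1 : Subgroup (Perm (Fin 8)) := H.map (c : Perm (Fin 8) →* Perm (Fin 8)) with hH1
  have e : H ≃* H1 := c.subgroupMap H
  have hS1 : S0 ≤ H1 := by
    intro s hs
    refine Subgroup.mem_map.mpr ⟨a * s * (a : Perm (Fin 8))⁻¹, hconj s hs, ?_⟩
    show (a : Perm (Fin 8))⁻¹ * (a * s * (a : Perm (Fin 8))⁻¹) * ((a : Perm (Fin 8))⁻¹)⁻¹ = s
    group
  exact k1344_aux H1 (by rw [← Nat.card_congr e.toEquiv, hcard]) hS1 (hR.of_mulEquiv e)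

end Cfsg.Agent.Lib.Helper5.GL42
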