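import Mathlib
import Cfsg.Prelude.Def_Solvable
import Cfsg.Agent.Lib.Helper5.GL42.K1344
import Cfsg.Agent.Lib.Helper5.GL42.Deg8c

/-!
# Subgroups of `GL(4,2)` with trivial `O_2` and `O_{2'}`
-/

set_option autoImplicit false

namespace Cfsg.Agent.Lib.Helper5.GL42

open Equiv Subgroup

/-- a nontrivial solvable normal subgroup contains a nontrivial abelian normal subgroup -/
theorem exists_abelian_normal {X : Type*} [Group X] (N : Subgroup X) [hN : N.Normal]
    (hs : Group.IsSolvable N) (hne : N ≠ ⊥) :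
    ∃ A : Subgroup X, A.Normal ∧ (∀ a ∈ A, ∀ b ∈ A, a * b = b * a) ∧ A ≠ ⊥ := by
  classical
  have hNnt : Nontrivial N := (Subgroup.nontrivial_iff_ne_bot N).mpr hne
  have hex : ∃ n, derivedSeries N n = ⊥ := hs.solvable
  have hk : derivedSeries N (Nat.find hex) = ⊥ := Nat.find_spec hex
  have hk0 : Nat.find hex ≠ 0 := by
    intro h0
    rw [h0, derivedSeries_zero] at hk
    exact top_ne_bot hk
  obtain ⟨m, hm⟩ := Nat.exists_eq_succ_of_ne_zero hk0
  have hBne : derivedSeries N m ≠ ⊥ := Nat.find_min hex (by omega : m < Nat.find hex)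
  have hBc : ⁅derivedSeries N m, derivedSeries N m⁆ = ⊥ := by
    rw [← derivedSeries_succ, ← Nat.succ_eq_add_one, ← hm]
    exact hk
  refine ⟨(derivedSeries N m).map N.subtype, ?_, ?_, ?_⟩
  · exact ConjAct.normal_of_characteristic_of_normal
  · rintro _ ⟨a, ha, rfl⟩ _ ⟨b, hb, rfl⟩
    have h1 := (Subgroup.commutator_eq_bot_iff_le_centralizer.mp hBc) ha
    rw [mem_centralizer_iff] at h1
    have h2 := h1 b hb
    exact (congrArg Subtype.val h2).symm
  · exact (Subgroup.map_eq_bot_iff_of_injective _ N.subtype_injective).not.mpr hBne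

/-- trivial `O_2` and `O_{2'}`: no nontrivial solvable normal subgroup -/
theorem noSolv_of_cores (X : Type*) [Group X] [Finite X]
    (hO : Cfsg.pPrimeCore 2 X = ⊥) (hO2 : Cfsg.pCore 2 X = ⊥) : NoSolv X := by
  intro N hN hs
  by_contra hne
  obtain ⟨A, hAn, hAc, hAne⟩ := exists_abelian_normal N hs hne
  have hAnt : Nontrivial A := (Subgroup.nontrivial_iff_ne_bot A).mpr hAne
  have hcard : Nat.card A ≠ 1 := by
    have := Finite.one_lt_card_iff_nontrivial.mpr hAnt
    omega
  obtain ⟨p, hp, hpd⟩ := Nat.exists_prime_and_dvd hcard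
  have : Fact p.Prime := ⟨hp⟩
  obtain ⟨a, ha⟩ := exists_prime_orderOf_dvd_card' (G := A) p hpd
  let Ap : Subgroup X :=
    { carrier := {x | x ∈ A ∧ x ^ p = 1}
      one_mem' := ⟨A.one_mem, one_pow p⟩
      mul_mem' := by
        rintro x y ⟨hx, hx1⟩ ⟨hy, hy1⟩
        refine ⟨A.mul_mem hx hy, ?_⟩
        have hc : Commute x y := hAc x hx y hy
        rw [hc.mul_pow, hx1, hy1, one_mul]
      inv_mem' := by
        rintro x ⟨hx, hx1⟩
        exact ⟨A.inv_mem hx, by rw [inv_pow, hx1, inv_one]⟩ }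
  have hApn : Ap.Normal := by
    refine ⟨?_⟩
    rintro x ⟨hx, hx1⟩ g
    refine ⟨hAn.conj_mem x hx g, ?_⟩
    rw [conj_pow, hx1, mul_one, mul_inv_cancel]
  have hApp : IsPGroup p Ap := by
    intro x
    refine ⟨1, ?_⟩
    apply Subtype.ext
    rw [pow_one]
    exact x.2.2
  have haAp : (a : X) ∈ Ap := by
    refine ⟨a.2, ?_⟩
    have h1 : a ^ p = 1 := by rw [← ha, pow_orderOf_eq_one]
    exact_mod_cast congrArg Subtype.val h1
  have ha1 : (a : X) ≠ 1 := by
    intro h
    have h2 : a = 1 := Subtype.ext h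
    rw [h2, orderOf_one] at ha
    exact hp.one_lt.ne ha
  have hApbot : Ap = ⊥ := by
    by_cases hp2 : p = 2
    · subst hp2
      rw [eq_bot_iff, ← hO2]
      exact le_sSup ⟨hApn, hApp⟩
    · rw [eq_bot_iff, ← hO]
      apply le_sSup
      refine ⟨hApn, ?_⟩
      obtain ⟨k, hk⟩ := hApp.exists_card_eq
      rw [hk]
      exact ((Nat.coprime_primes hp Nat.prime_two).mpr hp2).pow_left k
  rw [hApbot] at haAp
  exact ha1 (Subgroup.mem_bot.mp haAp)

/-- the theorem on subgroups of `GL(4,2)` -/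
theorem main_gl (H : Subgroup (GL (Fin 4) (ZMod 2))) (hH : H ≠ ⊥)
    (hO : Cfsg.pPrimeCore 2 ↥H = ⊥) (hO2 : Cfsg.pCore 2 ↥H = ⊥) : Concl H := by
  obtain ⟨e⟩ := gl4_equiv_alt8
  let f : GL (Fin 4) (ZMod 2) →* Perm (Fin 8) :=
    (alternatingGroup (Fin 8)).subtype.comp e.toMonoidHom
  have hf : Function.Injective f := Subtype.val_injective.comp e.injective
  let eH : H ≃* H.map f := H.equivMapOfInjective f hf
  have hA : H.map f ≤ alternatingGroup (Fin 8) := by
    rintro _ ⟨x, -, rfl⟩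
    exact (e x).2
  have hR : NoSolv H := noSolv_of_cores H hO hO2
  have hR' : NoSolv (H.map f) := hR.of_mulEquiv eH
  have hnt : Nontrivial H := (Subgroup.nontrivial_iff_ne_bot H).mpr hH
  have hnt' : Nontrivial (H.map f) := eH.symm.toEquiv.nontrivial
  exact Concl.of_mulEquiv eH
    (main_perm (H.map f) hA hR'
      (deg8_main (H.map f) hA hR' (fun h => k1344 (H.map f) hA h hR')))

end Cfsg.Agent.Lib.Helper5.GL42
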